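import Groth.Agent.H23.AcyclicRes.PushF
import Groth.Agent.CohPullX.DegreeZero
import Groth.Agent.CohPullX.FpExchange
import Groth.Agent.KFlatLib.Scheme.RpushLocus
import Groth.Agent.KFlatLib.Scheme.VanishLocFree
import Groth.Agent.MorLib.FlatBC
import Groth.Agent.QCoh.RpushProper
import Groth.Agent.KZ.LFRes

/-!
# Base change of the twisted push-forward on bundle classes
-/

set_option autoImplicit false
set_option linter.style.haveILetI false
set_option linter.unusedSectionVars false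
set_option backward.isDefEq.respectTransparency false
set_option backward.isDefEq.respectTransparency.types false

universe u

open CategoryTheory CategoryTheory.Limits AlgebraicGeometry

noncomputable section

namespace Groth.Agent.H23.AcyclicRes

open Groth.Agent

variable {X Y X' Y' : Scheme.{u}} {π : X ⟶ Y} {h : Y' ⟶ Y} {q₁ : X' ⟶ X} {q₂ : X' ⟶ Y'}
  [IsNoetherian X] [IsNoetherian Y] [IsNoetherian X'] [IsNoetherian Y'] [IsProper π] [IsProper q₂]
  [HasInjectiveResolutions X.Modules] [HasInjectiveResolutions X'.Modules]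

/-- Cohomology and base change for a flat module without higher direct images. -/
theorem baseChange_acyclic (hsq : IsPullback q₁ q₂ π h) {M : X.Modules} (hM : Coh.IsCoh M)
    (hfl : FlatMod.IsFlatOver π M) (hv : ∀ p, 0 < p → H28.RKoszul.RZ π M p) :
    (∀ p, 0 < p → H28.RKoszul.RZ q₂ ((Scheme.Modules.pullback q₁).obj M) p) ∧
      IsIso (CohBC.bc0 π h q₂ q₁ hsq.w M) := by
  have hfp : CohB1.IsFP M := KZ.LFRes.isFP_of_isCoh hM
  have hR : ∀ i : ℕ, 0 < i → IsZero ((Coh.Rpush π i).obj M) := fun i hi => by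
    obtain ⟨i, rfl⟩ : ∃ k, i = k + 1 := ⟨i - 1, by omega⟩
    exact H28.BlowExact.isZero_Rpush_of_rz π i (hv _ i.succ_pos)
  have hfib : ∀ (y : Y) (p : ℕ), 0 < p → Subsingleton (CohIII.fiberH π M y p) :=
    fun y p hp => KFlatLib.VanishLocFree.subsingleton_fiberH_of_vanish hfp hfl hR y p hp
  let M' := (Scheme.Modules.pullback q₁).obj M
  have hM' : Coh.IsCoh M' := ⟨QCoh.isQCoh_pullback q₁ hM.1, QCoh.isFT_pullback q₁ hM.1 hM.2⟩
  have hfp' : CohB1.IsFP M' := KZ.LFRes.isFP_of_isCoh hM'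
  have hfl' : FlatMod.IsFlatOver q₂ M' := fun x =>
    MorLib.FlatBC.isFlatOverAt_baseChange π q₂ q₁ h hsq M x (hfl _)
  refine ⟨fun p hp => ?_, CohPullX.isIso_bc0_of_hasKerBC hsq hM.1 fun t =>
    CohPullX.exists_kerBC_nhd_of_H1_zero hfp hfl (h t) (hfib _ 1 one_pos)⟩
  obtain ⟨p, rfl⟩ : ∃ k, p = k + 1 := ⟨p - 1, by omega⟩
  refine H28.BlowExact.rz_of_isZero_Rpush q₂ p ?_
  have hz : ∀ t : Y', ∃ U : Y'.Opens, t ∈ U ∧ IsAffineOpen U ∧
      Subsingleton Γ((Coh.Rpush q₂ (p + 1)).obj M', U) := fun t => by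
    have h0 : CohIII.fiberRank q₂ M' (p + 1) t = 0 := by
      rw [KFlatLib.Locus.fiberRank_baseChange hfp hfl hsq (p + 1) t]
      haveI := hfib (h t) (p + 1) p.succ_pos
      exact Module.finrank_zero_of_subsingleton
    have h1 : Subsingleton (CohIII.fiberH q₂ M' t (p + 1)) := by
      obtain ⟨_, ⟨V, hV, rfl⟩, ht, -⟩ :=
        Y'.isBasis_affineOpens.exists_subset_of_mem_open (Set.mem_univ t) isOpen_univ
      have hV' : IsAffineOpen V := hV
      obtain ⟨A₀, _, hA, φ, P, hP⟩ := CohPullX.exists_isFpModel hfp' hfl' hV'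
      haveI := hA
      haveI := (hP.2.2.2.2.2 (p + 1) t ht).2
      exact Module.finrank_zero_iff.1 h0
    obtain ⟨U, htU, hUa, hUs, -⟩ := CohPullX.exists_vanish_nhd hfp' hfl' t (p + 1) h1
    exact ⟨U, htU, hUa, hUs⟩
  choose U hU hUa hUs using hz
  exact QCoh.isZero_of_cover (QCoh.isCoh_Rpush_of_finiteness q₂ hM' (p + 1)
    fun A _ _ Z _ _ N hN n => Groth.Agent.S0002.result A Z N hN n).1 U hUa (fun t => ⟨t, hU t⟩) hUs

/-- Base change on an acyclic bundle. -/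
theorem pushF_baseChange_cl (hsq : IsPullback q₁ q₂ π h) {F : X.Modules} (hF : Coh.IsCoh F)
    (hFf : FlatMod.IsFlatOver π F)
    {KX KY KX' KY' : Type u} [CommRing KX] [CommRing KY] [CommRing KX'] [CommRing KY']
    [LambdaRing.LambdaOps KX'] [LambdaRing.LambdaOps KY']
    {PX' : LambdaRing.PosStructure KX'} {PY' : LambdaRing.PosStructure KY'}
    {φX : SGA6.Kvb X →+ KX} {φY : SGA6.Kvb Y →+ KY} {φX' : SGA6.Kvb X' →+ KX'} {φY' : SGA6.Kvb Y' →+ KY'}
    (hKX' : KRR.IsModel X' KX' PX' φX') (hKY' : KRR.IsModel Y' KY' PY' φY')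
    {g : KX →+ KY} (hg : KDet.IsPushF π F φX φY g)
    {g' : KX' →+ KY'} (hg' : KDet.IsPushF q₂ ((Scheme.Modules.pullback q₁).obj F) φX' φY' g')
    {pX : KX →+ KX'} (hpX : KRR.IsPull q₁ φX φX' pX) {pY : KY →+ KY'} (hpY : KRR.IsPull h φY φY' pY)
    {E : X.Modules} (hE : FlatMod.IsFinLocFree E)
    (hv : ∀ p, 0 < p → H28.RKoszul.RZ π (CohB1.tensorMod E F) p)
    {G : Y'.Modules} (hG : FlatMod.IsFinLocFree G) :
    g' (pX (φX (KRR.cl X E)) * φX' (KRR.cl X' ((Scheme.Modules.pullback q₂).obj G))) =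
      pY (g (φX (KRR.cl X E))) * φY' (KRR.cl Y' G) := by
  obtain ⟨hl, hgE⟩ := pushF_cl π hF hFf hg hE hv
  obtain ⟨hR', hiso⟩ := baseChange_acyclic hsq (CurveTensor.isCoh_tensor hE hF)
    (isFlatOver_tensor_lf π hE hFf) hv
  haveI := hiso
  let b := @asIso _ _ _ _ (CohBC.bc0 π h q₂ q₁ hsq.w (CohB1.tensorMod E F)) hiso
  let F' := (Scheme.Modules.pullback q₁).obj F
  have hF' : Coh.IsCoh F' := ⟨QCoh.isQCoh_pullback q₁ hF.1, QCoh.isFT_pullback q₁ hF.1 hF.2⟩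
  have hF'f : FlatMod.IsFlatOver q₂ F' := fun x =>
    MorLib.FlatBC.isFlatOverAt_baseChange π q₂ q₁ h hsq F x (hFf _)
  let E' := (Scheme.Modules.pullback q₁).obj E
  let P := (Scheme.Modules.pullback q₂).obj G
  have lE' : FlatMod.IsFinLocFree E' := H28.KvbPull.lf_pull q₁ hE
  have lP : FlatMod.IsFinLocFree P := H28.KvbPull.lf_pull q₂ hG
  obtain ⟨ep'⟩ := H23.PicMul.pull q₁ E F
  have hv' : ∀ p, 0 < p → H28.RKoszul.RZ q₂ (CohB1.tensorMod E' F') p :=
    fun p hp => H28.RKoszul.rz_of_iso q₂ ep' p (hR' p hp)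
  obtain ⟨e⟩ : Nonempty (CohB1.tensorMod P (CohB1.tensorMod E' F') ≅ CohB1.tensorMod (CohB1.tensorMod E' P) F') := by
    refine H23.PicMul.cl_eq_iff.1 ?_
    letI := H23.PicMul.clMonoid X'
    simp only [H23.PicMul.cl_tensor]
    ac_rfl
  have lEP : FlatMod.IsFinLocFree (CohB1.tensorMod E' P) := KFlatLib.isFinLocFree_tensor lE' lP
  obtain ⟨hl', hgEP⟩ := pushF_cl q₂ hF' hF'f hg' lEP fun p hp => by
    obtain ⟨p, rfl⟩ : ∃ k, p = k + 1 := ⟨p - 1, by omega⟩
    exact H28.RKoszul.rz_of_iso q₂ e _ (rz_pull_tensor q₂ hG p (hv' _ hp))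
  haveI := QCoh.preservesFiniteLimits_push q₂
  obtain ⟨ep⟩ := KFlatLib.nonempty_rpush_tensor_finLocFree q₂ (CohB1.tensorMod E' F') G hG 0
  let r := (Scheme.Modules.pushforward q₂).rightDerivedZeroIsoSelf
  let r₁ : (Coh.Rpush q₂ 0).obj (CohB1.tensorMod E' F') ≅ (Coh.push q₂).obj (CohB1.tensorMod E' F') := r.app _
  let r₂ : (Coh.Rpush q₂ 0).obj (CohB1.tensorMod P (CohB1.tensorMod E' F')) ≅
      (Coh.push q₂).obj (CohB1.tensorMod P (CohB1.tensorMod E' F')) := r.app _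
  let B := (Scheme.Modules.pullback h).obj ((Coh.push π).obj (CohB1.tensorMod E F))
  have lB : FlatMod.IsFinLocFree B := H28.KvbPull.lf_pull h hl
  let e₀ : (Coh.push q₂).obj (CohB1.tensorMod E' F') ≅ B := ((Coh.push q₂).mapIso ep').symm ≪≫ b.symm
  let e' : (Coh.push q₂).obj (CohB1.tensorMod (CohB1.tensorMod E' P) F') ≅
      (DCoh.tensorBi.obj B).obj G :=
    ((Coh.push q₂).mapIso e).symm ≪≫ r₂.symm ≪≫ ep.symm ≪≫ (DCoh.tensorBi.obj G).mapIso (r₁ ≪≫ e₀) ≪≫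
      (H28.KvbLam.comm B G).symm
  rw [hpX E hE, hKX'.map_mul E' P lE' lP]
  refine hgEP.trans ?_
  rw [hgE, hpY _ hl, hKY'.map_mul _ G lB hG]
  exact congrArg φY' (H28.KvbLam.cl_iso e' hl')

end Groth.Agent.H23.AcyclicRes
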