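import Groth.Agent.H23.AcyclicRes.Step
import Groth.Agent.H28.KTower
import Groth.Agent.H28.PullVB
import Groth.Agent.H28.PBFil
import Groth.Agent.H28.LineTwist
import Groth.Agent.Lib.EulerEtale
import Groth.Agent.S9815
import Groth.Prelude.Def_KRR

/-!
# Euler characteristics kill the top of the γ-filtration on small schemes over a field
-/

set_option autoImplicit false
set_option linter.style.haveILetI false
set_option linter.unusedSectionVars false
set_option backward.isDefEq.respectTransparency false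
set_option backward.isDefEq.respectTransparency.types false

universe v u

open CategoryTheory CategoryTheory.Limits AlgebraicGeometry TopologicalSpace

noncomputable section

namespace Groth.Agent.H23.AcyclicRes

open Groth.Agent

variable {k : Type u} [Field k] {X : Scheme.{u}}

theorem isCoh_pullBundle_tensor {W : Scheme.{u}} (f : W ⟶ X) {E : X.Modules} (hE : FlatMod.IsFinLocFree E)
    {G : W.Modules} (hG : Coh.IsCoh G) :
    Coh.IsCoh (CohB1.tensorMod ((Scheme.Modules.pullback f).obj E) G) :=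
  CurveTensor.isCoh_tensor (H28.KvbPull.lf_pull f hE) hG

/-- The functional `E ↦ χ(W, f^*E ⊗ G)`. -/
theorem exists_eulerHom {W : Scheme.{u}} [W.Over (Spec (CommRingCat.of k))]
    [IsProper (W ↘ Spec (CommRingCat.of k))] (f : W ⟶ X) {G : W.Modules} (hG : Coh.IsCoh G) :
    ∃ Ψ : SGA6.Kvb X →+ ℤ, ∀ E : X.Modules, FlatMod.IsFinLocFree E →
      Ψ (KRR.cl X E) = Curv2.euler k W (CohB1.tensorMod ((Scheme.Modules.pullback f).obj E) G) := by
  haveI := CurveCohLib.isNoetherian_of_proper (k := k) (X := W)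
  refine KZ.exists_liftSub (KRR.vbP X)
    (fun E => Curv2.euler k W (CohB1.tensorMod ((Scheme.Modules.pullback f).obj E) G))
    fun S hS h₁ h₂ h₃ => ?_
  have hp := H28.PullVB.shortExact_pullback f hS (KFlatLib.isFlat_of_isFinLocFree h₃)
  have w' : KoszTw.tensorMap ((Scheme.Modules.pullback f).map S.f) (𝟙 G) ≫
      KoszTw.tensorMap ((Scheme.Modules.pullback f).map S.g) (𝟙 G) = 0 := by
    rw [← KoszTw.tensorMap_comp, ← Functor.map_comp, S.zero, Functor.map_zero, Category.id_comp,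
      ← KoszTw.tensorBi_map_app, Functor.map_zero]
    rfl
  have wp : (Scheme.Modules.pullback f).map S.f ≫ (Scheme.Modules.pullback f).map S.g = 0 := by
    rw [← Functor.map_comp, S.zero, Functor.map_zero]
  have hse := DefoSh16.shortExact_tensor ((Scheme.Modules.pullback f).map S.f)
    ((Scheme.Modules.pullback f).map S.g) wp hp (H28.KvbPull.lf_pull f h₃) G w'
  have c₁ := isCoh_pullBundle_tensor f h₁ hG
  have c₂ := isCoh_pullBundle_tensor f h₂ hG
  have c₃ := isCoh_pullBundle_tensor f h₃ hG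
  have key := Euler.euler_add k (S := ShortComplex.mk _ _ w') hse c₁ c₂ c₃
  exact key

variable [IsNoetherian X] [ConnectedSpace ↥X] {KX : Type v} [CommRing KX] [LambdaRing.LambdaOps KX]
  {PX : LambdaRing.PosStructure KX} {φX : SGA6.Kvb X →+ KX}

/-- On a connected piece the class itself dies. -/
theorem eulerHom_eq_zero_of_connected (hKX : KRR.IsModel X KX PX φX) {W : Scheme.{u}} [IsNoetherian W]
    [ConnectedSpace ↥W] [W.Over (Spec (CommRingCat.of k))] (f : W ⟶ X) {A : W.Modules}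
    (hA : CohB1.IsAmple A) {d : ℕ} (hdim : topologicalKrullDim W ≤ (d : WithBot ℕ∞)) {a : SGA6.Kvb X}
    (ha : φX a ∈ LambdaRing.gammaFiltration PX (d + 1)) {G : W.Modules} (Ψ : SGA6.Kvb X →+ ℤ)
    (hΨ : ∀ E : X.Modules, FlatMod.IsFinLocFree E →
      Ψ (KRR.cl X E) = Curv2.euler k W (CohB1.tensorMod ((Scheme.Modules.pullback f).obj E) G))
    (hG : Coh.IsCoh G) [IsProper (W ↘ Spec (CommRingCat.of k))] : Ψ a = 0 := by
  obtain ⟨KW, _, _, PW, φW, hKW⟩ := H28.KvbModel.exists_isModel (X := W)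
  obtain ⟨p, hp, -⟩ := H28.PullVB.existsUnique_isPull f φW φX hKX.bijective
  have hmem : p (φX a) ∈ LambdaRing.gammaFiltration PW (d + 1) :=
    H28.PBFil.map_mem_gammaFiltration (f := H28.KvbPull.ringHom hKW hKX hp)
      (H28.KvbPull.map_lam hKW hKX hp) (H28.LineTwist.aug_pull hKW hKX hp) ha
  rw [H28.KTower.gammaFiltration_eq_bot hA hdim hKW] at hmem
  obtain ⟨P₀, hP₀⟩ := H28.PullVB.exists_pullHom f
  obtain ⟨ψ, hψ⟩ := exists_eulerHom (k := k) (𝟙 W) hG
  have hfac : Ψ = ψ.comp P₀ := KZ.K0sub_hom_ext _ fun E hE => by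
    show Ψ (KRR.cl X E) = ψ (P₀ (KRR.cl X E))
    rw [hΨ E hE, hP₀ E hE, hψ _ (H28.KvbPull.lf_pull f hE)]
    exact Euler.euler_congr k ((DCoh.tensorBi.flip.obj G).mapIso
      ((Scheme.Modules.pullbackId (X := W)).app ((Scheme.Modules.pullback f).obj E)).symm)
  have hpP : φW.comp P₀ = p.comp φX := KZ.K0sub_hom_ext _ fun E hE => by
    show φW (P₀ (KRR.cl X E)) = p (φX (KRR.cl X E))
    rw [hP₀ E hE, hp E hE]
  have h0 : P₀ a = 0 := by
    refine hKW.bijective.1 ?_
    rw [map_zero, show φW (P₀ a) = p (φX a) from DFunLike.congr_fun hpP a]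
    exact hmem
  rw [hfac, AddMonoidHom.comp_apply, h0, map_zero]

/-- The functional kills `F^{d+1}` when the scheme has dimension at most `d`. -/
theorem eulerHom_eq_zero (hKX : KRR.IsModel X KX PX φX) {d : ℕ} {a : SGA6.Kvb X}
    (ha : φX a ∈ LambdaRing.gammaFiltration PX (d + 1)) {Z : Scheme.{u}} [IsNoetherian Z] {A : Z.Modules}
    (hA : CohB1.IsAmple A) (hdim : topologicalKrullDim Z ≤ (d : WithBot ℕ∞)) :
    ∀ (C : Closeds Z) (W : Scheme.{u}) [W.Over (Spec (CommRingCat.of k))]
      [IsProper (W ↘ Spec (CommRingCat.of k))] (j : W ⟶ Z) [IsClosedImmersion j], Set.range j = C →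
      ∀ (f : W ⟶ X) (G : W.Modules), Coh.IsCoh G → ∀ Ψ : SGA6.Kvb X →+ ℤ,
        (∀ E : X.Modules, FlatMod.IsFinLocFree E →
          Ψ (KRR.cl X E) = Curv2.euler k W (CohB1.tensorMod ((Scheme.Modules.pullback f).obj E) G)) →
        Ψ a = 0 := by
  intro C
  induction C using WellFoundedLT.induction with
  | ind C ih =>
    intro W _ _ j _ hj f G hG Ψ hΨ
    haveI := CurveCohLib.isNoetherian_of_proper (k := k) (X := W)
    rcases isEmpty_or_nonempty ↥W with hW | hW
    · suffices Ψ = 0 by rw [this]; rfl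
      refine KZ.K0sub_hom_ext _ fun E hE => (hΨ E hE).trans ?_
      exact EulerEtale.euler_of_support_eq_empty k (Set.eq_empty_of_forall_notMem fun x => (hW.false x).elim)
    by_cases hc : PreconnectedSpace ↥W
    · haveI : ConnectedSpace ↥W := { toNonempty := hW }
      exact eulerHom_eq_zero_of_connected hKX f
        (AmpleVan.isAmple_pullback_of_isEmbedding j j.isClosedEmbedding.isEmbedding hA)
        (j.isClosedEmbedding.isInducing.topologicalKrullDim_le.trans hdim) ha Ψ hΨ hG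
    · obtain ⟨S, hS, hne, hne'⟩ : ∃ S : Set W, IsClopen S ∧ S.Nonempty ∧ Sᶜ.Nonempty := by
        by_contra h
        refine hc (preconnectedSpace_iff_clopen.2 fun S hS => ?_)
        by_contra h'
        rw [not_or] at h'
        exact h ⟨S, hS, Set.nonempty_iff_ne_empty.2 h'.1,
          Set.nonempty_iff_ne_empty.2 fun h'' => h'.2 (Set.compl_empty_iff.1 h'')⟩
      let U : W.Opens := ⟨S, hS.2⟩
      let V : W.Opens := ⟨Sᶜ, hS.1.isOpen_compl⟩
      letI : (U : Scheme.{u}).Over (Spec (CommRingCat.of k)) := ⟨U.ι ≫ (W ↘ Spec (CommRingCat.of k))⟩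
      letI : (V : Scheme.{u}).Over (Spec (CommRingCat.of k)) := ⟨V.ι ≫ (W ↘ Spec (CommRingCat.of k))⟩
      haveI : IsClosedImmersion U.ι :=
        IsClosedImmersion.of_isPreimmersion U.ι (by rw [Scheme.Opens.range_ι]; exact hS.1)
      haveI : IsClosedImmersion V.ι :=
        IsClosedImmersion.of_isPreimmersion V.ι (by rw [Scheme.Opens.range_ι]; exact hS.2.isClosed_compl)
      haveI : IsProper ((U : Scheme.{u}) ↘ Spec (CommRingCat.of k)) :=
        inferInstanceAs (IsProper (U.ι ≫ (W ↘ Spec (CommRingCat.of k))))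
      haveI : IsProper ((V : Scheme.{u}) ↘ Spec (CommRingCat.of k)) :=
        inferInstanceAs (IsProper (V.ι ≫ (W ↘ Spec (CommRingCat.of k))))
      let GU := (Scheme.Modules.pullback U.ι).obj G
      let GV := (Scheme.Modules.pullback V.ι).obj G
      have hGU : Coh.IsCoh GU := ⟨QCoh.isQCoh_pullback _ hG.1, QCoh.isFT_pullback _ hG.1 hG.2⟩
      have hGV : Coh.IsCoh GV := ⟨QCoh.isQCoh_pullback _ hG.1, QCoh.isFT_pullback _ hG.1 hG.2⟩
      obtain ⟨ΨU, hU⟩ := exists_eulerHom (k := k) (U.ι ≫ f) hGU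
      obtain ⟨ΨV, hV⟩ := exists_eulerHom (k := k) (V.ι ≫ f) hGV
      have hsum : Ψ = ΨU + ΨV := KZ.K0sub_hom_ext _ fun E hE => by
        show Ψ (KRR.cl X E) = ΨU (KRR.cl X E) + ΨV (KRR.cl X E)
        rw [hΨ E hE, hU E hE, hV E hE, EulerEtale.euler_clopen' k (U := U) (V := V) rfl
          (isCoh_pullBundle_tensor f hE hG)]
        obtain ⟨eU⟩ := H23.PicMul.pull U.ι ((Scheme.Modules.pullback f).obj E) G
        obtain ⟨eV⟩ := H23.PicMul.pull V.ι ((Scheme.Modules.pullback f).obj E) G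
        exact congrArg₂ (· + ·)
          (Euler.euler_congr k (eU ≪≫ (DCoh.tensorBi.flip.obj GU).mapIso
            ((Scheme.Modules.pullbackComp U.ι f).app E)))
          (Euler.euler_congr k (eV ≪≫ (DCoh.tensorBi.flip.obj GV).mapIso
            ((Scheme.Modules.pullbackComp V.ι f).app E)))
      have hrange : ∀ (O : W.Opens) [IsClosedImmersion O.ι], ((O : Set W))ᶜ.Nonempty →
          (⟨Set.range (O.ι ≫ j), (O.ι ≫ j).isClosedEmbedding.isClosed_range⟩ : Closeds Z) < C := by
        intro O _ hO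
        refine lt_of_le_of_ne ?_ fun h => ?_
        · rintro _ ⟨x, rfl⟩
          exact (Set.ext_iff.1 hj _).1 ⟨O.ι x, rfl⟩
        · obtain ⟨w, hw⟩ := hO
          have : j w ∈ (C : Set Z) := hj ▸ ⟨w, rfl⟩
          rw [← h] at this
          obtain ⟨x, hx⟩ := this
          exact hw (j.isClosedEmbedding.injective hx ▸ x.2)
      rw [hsum, AddMonoidHom.add_apply,
        ih _ (hrange U hne') U (U.ι ≫ j) rfl (U.ι ≫ f) GU hGU ΨU hU,
        ih _ (hrange V (by rwa [show ((V : Set W))ᶜ = S from compl_compl S])) V (V.ι ≫ j) rfl (V.ι ≫ f) GV hGV ΨV hV,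
        add_zero]

end Groth.Agent.H23.AcyclicRes
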