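import Groth.Agent.H23.AcyclicRes.PushF
import Groth.Agent.H23.AcyclicRes.EulerVanish
import Groth.Agent.KFlatLib.Scheme.VanishLocFree
import Groth.Agent.KZ.LFRes
import Groth.Agent.Lib.AVRelAmple
import Groth.Agent.Lib.CurveAmple
import Groth.Agent.Pic13Lib.IntNum
import Groth.Agent.QCoh.RpushExchange

/-!
# The rank of the twisted push-forward through one fibre
-/

set_option autoImplicit false
set_option linter.style.haveILetI false
set_option linter.unusedSectionVars false
set_option backward.isDefEq.respectTransparency false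
set_option backward.isDefEq.respectTransparency.types false

universe u

open CategoryTheory CategoryTheory.Limits AlgebraicGeometry TopologicalSpace

noncomputable section

namespace Groth.Agent.H23.AcyclicRes

open Groth.Agent

variable {X Y : Scheme.{u}} (π : X ⟶ Y)

/-- The rank of the direct image of an acyclic module is the Euler characteristic of a fibre. -/
theorem euler_fibre_eq_rank [IsNoetherian X] [IsNoetherian Y] [HasInjectiveResolutions X.Modules] [IsProper π]
    {M : X.Modules} (hM : Coh.IsCoh M) (hfl : FlatMod.IsFlatOver π M)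
    (hv : ∀ p, 0 < p → H28.RKoszul.RZ π M p) {n : ℕ}
    (hn : FlatMod.IsFinLocFreeOfRank n ((Coh.push π).obj M)) (y : Y) :
    letI : (π.fiber y).Over (Spec (CommRingCat.of (Y.residueField y))) := ⟨π.fiberToSpecResidueField y⟩
    Curv2.euler (Y.residueField y) (π.fiber y) ((Scheme.Modules.pullback (π.fiberι y)).obj M) = n := by
  letI : (π.fiber y).Over (Spec (CommRingCat.of (Y.residueField y))) := ⟨π.fiberToSpecResidueField y⟩
  haveI : IsProper ((π.fiber y) ↘ Spec (CommRingCat.of (Y.residueField y))) :=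
    inferInstanceAs (IsProper (pullback.snd π (Y.fromSpecResidueField y)))
  have hR : ∀ i : ℕ, 0 < i → IsZero ((Coh.Rpush π i).obj M) := fun i hi => by
    obtain ⟨i, rfl⟩ : ∃ k, i = k + 1 := ⟨i - 1, by omega⟩
    exact H28.BlowExact.isZero_Rpush_of_rz π i (hv _ i.succ_pos)
  have hfib : ∀ p : ℕ, 0 < p → Subsingleton (CohIII.fiberH π M y p) := fun p hp =>
    KFlatLib.VanishLocFree.subsingleton_fiberH_of_vanish (KZ.LFRes.isFP_of_isCoh hM) hfl hR y p hp
  obtain ⟨U, hy, ⟨e⟩⟩ := QCoh.exists_free_of_concentrated hM hfl 0 y fun i hi => hfib i (Nat.pos_of_ne_zero hi)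
  haveI := QCoh.preservesFiniteLimits_push π
  have h1 : H28.KvbModel.FrameAt ((Coh.push π).obj M) (CohIII.fiberRank π M 0 y) y :=
    frameAt_of_iso_free hy (((Scheme.Modules.restrictFunctor U.ι).mapIso
      (((Scheme.Modules.pushforward π).rightDerivedZeroIsoSelf).app M)).symm ≪≫ e)
  rw [← H28.KvbModel.frameAt_unique h1 (H28.KvbModel.frameAt_of_rank hn y)]
  exact CurveAmple.euler_eq_h0_of_vanishing (k := Y.residueField y) fun q => hfib (q + 1) q.succ_pos

/-- The rank of `π_*^F` kills `F^{d+1}`. -/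
theorem aug_pushF_eq_zero [IsNoetherian X] [IsNoetherian Y] [ConnectedSpace X] [ConnectedSpace Y]
    [HasInjectiveResolutions X.Modules] [IsProper π]
    (hq : RelProj.IsQuasiProjective π) (hAB : Flat π ∨ ∃ H : Y.Modules, CohB1.IsAmple H)
    {F : X.Modules} (hF : Coh.IsCoh F) (hFf : FlatMod.IsFlatOver π F) (d : ℕ)
    (hd : ∀ y : Y, topologicalKrullDim ↥{x : X | x ∈ CohB1.support F ∧ π.base x = y} ≤ d)
    {KX KY : Type u} [CommRing KX] [CommRing KY] [LambdaRing.LambdaOps KX] [LambdaRing.LambdaOps KY]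
    {PX : LambdaRing.PosStructure KX} {PY : LambdaRing.PosStructure KY}
    {φX : SGA6.Kvb X →+ KX} {φY : SGA6.Kvb Y →+ KY}
    (hKX : KRR.IsModel X KX PX φX) (hKY : KRR.IsModel Y KY PY φY)
    {g : KX →+ KY} (hg : KDet.IsPushF π F φX φY g) {x : KX}
    (hx : x ∈ LambdaRing.gammaFiltration PX (d + 1)) : PY.aug (g x) = 0 := by
  obtain ⟨a, rfl⟩ := hKX.bijective.2 x
  obtain ⟨y⟩ := (inferInstance : Nonempty ↥Y)
  let k : Type u := Y.residueField y
  let Xy := π.fiber y
  letI : Xy.Over (Spec (CommRingCat.of k)) := ⟨π.fiberToSpecResidueField y⟩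
  haveI : IsProper (Xy ↘ Spec (CommRingCat.of k)) := inferInstanceAs (IsProper (pullback.snd π (Y.fromSpecResidueField y)))
  haveI := CurveCohLib.isNoetherian_of_proper (k := k) (X := Xy)
  let Fy := (Scheme.Modules.pullback (π.fiberι y)).obj F
  have hFyq := QCoh.isQCoh_pullback (π.fiberι y) hF.1
  have hFyt := QCoh.isFT_pullback (π.fiberι y) hF.1 hF.2
  obtain ⟨Z, i, G, hi, hr, hGq, hGt, ⟨eG⟩⟩ := QCoh.exists_closed_model hFyq hFyt
  haveI := hi
  letI : Z.Over (Spec (CommRingCat.of k)) := ⟨i ≫ (Xy ↘ Spec (CommRingCat.of k))⟩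
  haveI : IsProper (Z ↘ Spec (CommRingCat.of k)) :=
    inferInstanceAs (IsProper (i ≫ (Xy ↘ Spec (CommRingCat.of k))))
  haveI := CurveCohLib.isNoetherian_of_proper (k := k) (X := Z)
  haveI := KFlatLib.hasInjectiveResolutions_modules (X := Z)
  obtain ⟨-, -, L, hL⟩ := hq
  have hLy : CohB1.IsAmple ((Scheme.Modules.pullback (π.fiberι y)).obj L) :=
    AVRelAmple.isAmple_pullback hL (K := k) (Y.fromSpecResidueField y) (π.fiberι y)
      (π.fiberToSpecResidueField y) (IsPullback.of_hasPullback π (Y.fromSpecResidueField y))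
  have hLZ := AmpleVan.isAmple_pullback_of_isEmbedding i i.isClosedEmbedding.isEmbedding hLy
  have hdim : topologicalKrullDim Z ≤ (d : WithBot ℕ∞) := by
    have hmem : ∀ z : Z, i z ∈ (π.fiberι y).base ⁻¹' CohB1.support F := fun z => by
      rw [← QCoh.support_pullback (π.fiberι y) hF.1 hF.2, ← hr]
      exact ⟨z, rfl⟩
    let r : Z → ↥{x : X | x ∈ CohB1.support F ∧ π.base x = y} := fun z =>
      ⟨π.fiberι y (i z), hmem z, FibDim.fiber_apply_fiberι π (i z)⟩
    have hr' : Topology.IsEmbedding r :=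
      ((π.fiberι y).isEmbedding.comp i.isClosedEmbedding.isEmbedding).codRestrict _ fun z => (r z).2
    exact hr'.isInducing.topologicalKrullDim_le.trans (hd y)
  obtain ⟨Ψ, hΨ⟩ := exists_eulerHom (k := k) (i ≫ π.fiberι y) (G := G) ⟨hGq, hGt⟩
  have h0 : Ψ a = 0 := eulerHom_eq_zero hKX hx hLZ hdim ⊤ Z (𝟙 Z) (by
    rw [Closeds.coe_top]; exact Set.range_eq_univ.2 fun z => ⟨z, rfl⟩) (i ≫ π.fiberι y) G ⟨hGq, hGt⟩ Ψ hΨ
  let h₁ : SGA6.Kvb X →+ ℤ := PY.aug.toAddMonoidHom.comp (g.comp φX)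
  suffices hmem : a ∈ (h₁ - Ψ).ker by
    have h' : h₁ a - Ψ a = 0 := hmem
    rw [h0, sub_zero] at h'
    exact h'
  refine generators_induction π ⟨inferInstance, inferInstance, L, hL⟩ hAB hF d hd _
    (fun E hE hv => sub_eq_zero.2 ?_) a
  show PY.aug (g (φX (KRR.cl X E))) = Ψ (KRR.cl X E)
  obtain ⟨hl, hgE⟩ := pushF_cl π hF hFf hg hE hv
  obtain ⟨n, hn⟩ := H28.KvbModel.exists_rank (E := (Coh.push π).obj (CohB1.tensorMod E F)) hl
  rw [hgE, hKY.aug_cl n _ hn, hΨ E hE,
    ← euler_fibre_eq_rank π (CurveTensor.isCoh_tensor hE hF) (isFlatOver_tensor_lf π hE hFf) hv hn y]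
  let Ey := (Scheme.Modules.pullback (π.fiberι y)).obj E
  have lEy : FlatMod.IsFinLocFree Ey := H28.KvbPull.lf_pull _ hE
  obtain ⟨e₁⟩ := H23.PicMul.pull (π.fiberι y) E F
  haveI := QCoh.preservesFiniteLimits_push i
  obtain ⟨ep⟩ := KFlatLib.nonempty_rpush_tensor_finLocFree i G Ey lEy 0
  let r₀ := (Scheme.Modules.pushforward i).rightDerivedZeroIsoSelf
  let rA : (Coh.Rpush i 0).obj G ≅ (Coh.push i).obj G := r₀.app _
  let rB : (Coh.Rpush i 0).obj (CohB1.tensorMod ((Scheme.Modules.pullback i).obj Ey) G) ≅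
      (Coh.push i).obj (CohB1.tensorMod ((Scheme.Modules.pullback i).obj Ey) G) := r₀.app _
  let e₂ : (Scheme.Modules.pullback (π.fiberι y)).obj (CohB1.tensorMod E F) ≅
      (Coh.push i).obj (CohB1.tensorMod ((Scheme.Modules.pullback i).obj Ey) G) :=
    e₁ ≪≫ (DCoh.tensorBi.obj Ey).mapIso (eG.symm ≪≫ rA.symm) ≪≫ ep ≪≫ rB
  have c := (isCoh_pullBundle_tensor i lEy (G := G) ⟨hGq, hGt⟩).1
  exact (Euler.euler_congr k e₂).trans ((Pic13Lib.euler_push (k := k) i rfl c).trans
    (Euler.euler_congr k ((DCoh.tensorBi.flip.obj G).mapIso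
      ((Scheme.Modules.pullbackComp i (π.fiberι y)).app E))))

end Groth.Agent.H23.AcyclicRes
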