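import Groth.Agent.H23.AcyclicRes.Step
import Mathlib.Algebra.Homology.ShortComplex.ExactFunctor

/-!
# Finite coresolutions of bundles by acyclic bundles
-/

set_option autoImplicit false
set_option linter.style.haveILetI false
set_option linter.unusedSectionVars false
set_option backward.isDefEq.respectTransparency false
set_option backward.isDefEq.respectTransparency.types false

universe u

open CategoryTheory CategoryTheory.Limits AlgebraicGeometry ZeroObject

noncomputable section

namespace Groth.Agent.H23.AcyclicRes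

open Groth.Agent Groth.Agent.H23.PicMul

section Splice

variable {X : Scheme.{u}} {E W Q : X.Modules} (f : E ⟶ W) (g : W ⟶ Q) (w : f ≫ g = 0)
  (C : CochainComplex X.Modules ℕ) (e : C.X 0 ≅ Q)

/-- Terms of the spliced complex. -/
def spliceX : ℕ → X.Modules
  | 0 => E
  | 1 => W
  | i + 2 => C.X (i + 1)

/-- Differentials of the spliced complex. -/
def spliceD : ∀ i, spliceX (E := E) (W := W) C i ⟶ spliceX (E := E) (W := W) C (i + 1)
  | 0 => f
  | 1 => g ≫ e.inv ≫ C.d 0 1
  | i + 2 => C.d (i + 1) (i + 2)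

include w in
theorem spliceD_comp : ∀ i, spliceD f g C e i ≫ spliceD f g C e (i + 1) = 0
  | 0 => show f ≫ (g ≫ e.inv ≫ C.d 0 1) = 0 by rw [reassoc_of% w, zero_comp]
  | 1 => show (g ≫ e.inv ≫ C.d 0 1) ≫ C.d 1 2 = 0 by simp
  | i + 2 => C.d_comp_d _ _ _

/-- Splicing a short exact sequence with a complex. -/
def splice : CochainComplex X.Modules ℕ :=
  CochainComplex.of (spliceX (E := E) (W := W) C) (spliceD f g C e) (spliceD_comp f g w C e)

theorem splice_d (i : ℕ) : (splice f g w C e).d i (i + 1) = spliceD f g C e i := CochainComplex.of_d ..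

theorem acyclic_splice (hS : (ShortComplex.mk f g w).ShortExact) (hC : C.Acyclic) :
    (splice f g w C e).Acyclic := fun i => by
  haveI := hS.mono_f
  haveI : Epi g := hS.epi_g
  haveI hm : Mono (C.d 0 1) := by
    have h0 := (C.exactAt_iff' 0 0 1 (by simp) (by simp)).1 (hC 0)
    exact h0.mono_g (C.shape 0 0 (by simp))
  match i with
  | 0 =>
    rw [HomologicalComplex.exactAt_iff' _ 0 0 1 (by simp) (by simp)]
    refine (ShortComplex.exact_iff_mono _ ((splice f g w C e).shape 0 0 (by simp))).2 ?_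
    exact (show Mono ((splice f g w C e).d 0 1) by rw [splice_d f g w C e 0]; exact hS.mono_f)
  | 1 =>
    rw [HomologicalComplex.exactAt_iff' _ 0 1 2 (by simp) (by simp)]
    have h := hS.exact
    refine (ShortComplex.exact_iff_of_epi_of_isIso_of_mono (S₁ := ShortComplex.mk f g w)
      (S₂ := (splice f g w C e).sc' 0 1 2)
      { τ₁ := 𝟙 E, τ₂ := 𝟙 W, τ₃ := e.inv ≫ C.d 0 1
        comm₁₂ := ?_, comm₂₃ := ?_ }).1 h
    · exact (Category.id_comp _).trans ((splice_d f g w C e 0).trans (Category.comp_id f).symm)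
    · exact (Category.id_comp _).trans (splice_d f g w C e 1)
  | 2 =>
    rw [HomologicalComplex.exactAt_iff' _ 1 2 3 (by simp) (by simp)]
    have h := (C.exactAt_iff' 0 1 2 (by simp) (by simp)).1 (hC 1)
    refine (ShortComplex.exact_iff_of_epi_of_isIso_of_mono (S₁ := (splice f g w C e).sc' 1 2 3)
      (S₂ := C.sc' 0 1 2)
      { τ₁ := g ≫ e.inv, τ₂ := 𝟙 (C.X 1), τ₃ := 𝟙 (C.X 2)
        comm₁₂ := ?_, comm₂₃ := ?_ }).2 h
    · exact (Category.assoc _ _ _).trans
        (((splice_d f g w C e 1)).symm.trans (Category.comp_id _).symm)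
    · exact (Category.id_comp _).trans ((splice_d f g w C e 2).symm.trans (Category.comp_id _).symm)
  | j + 3 =>
    rw [HomologicalComplex.exactAt_iff' _ (j + 2) (j + 3) (j + 4) (by simp) (by simp)]
    have h := (C.exactAt_iff' (j + 1) (j + 2) (j + 3) (by simp) (by simp)).1 (hC (j + 2))
    refine (ShortComplex.exact_iff_of_iso (ShortComplex.isoMk (S₁ := (splice f g w C e).sc' (j + 2) (j + 3) (j + 4))
      (S₂ := C.sc' (j + 1) (j + 2) (j + 3)) (Iso.refl _) (Iso.refl _) (Iso.refl _) ?_ ?_)).2 h
    · exact (Category.id_comp _).trans ((splice_d f g w C e (j + 2)).symm.trans (Category.comp_id _).symm)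
    · exact (Category.id_comp _).trans ((splice_d f g w C e (j + 3)).symm.trans (Category.comp_id _).symm)

end Splice

variable {X Y : Scheme.{u}} (π : X ⟶ Y)

/-- A bundle acyclic above degree `d` after tensoring has an acyclic coresolution of length `d`. -/
theorem exists_res [IsNoetherian X] [IsNoetherian Y] [HasInjectiveResolutions X.Modules] [IsProper π]
    (hq : RelProj.IsQuasiProjective π) (hAB : Flat π ∨ ∃ H : Y.Modules, CohB1.IsAmple H)
    {F : X.Modules} (hF : Coh.IsCoh F) : ∀ (d : ℕ) (E : X.Modules), FlatMod.IsFinLocFree E →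
    (∀ p, d < p → H28.RKoszul.RZ π (CohB1.tensorMod E F) p) →
    ∃ (C : CochainComplex X.Modules ℕ) (_ : C.X 0 ≅ E),
      C.Acyclic ∧ (∀ i, d + 1 < i → IsZero (C.X i)) ∧ (∀ i, FlatMod.IsFinLocFree (C.X i)) ∧
      ∀ i, 1 ≤ i → ∀ p, 0 < p → H28.RKoszul.RZ π (CohB1.tensorMod (C.X i) F) p
  | 0, E, hE, hv => by
    let C : CochainComplex X.Modules ℕ := 0
    have hz : ∀ i, IsZero (C.X i) := fun i =>
      (HomologicalComplex.eval X.Modules (ComplexShape.up ℕ) i).map_isZero (isZero_zero _)
    let e : C.X 0 ≅ (0 : X.Modules) := (hz 0).iso (isZero_zero _)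
    have w : (𝟙 E) ≫ (0 : E ⟶ (0 : X.Modules)) = 0 := comp_zero
    have hS : (ShortComplex.mk (𝟙 E) (0 : E ⟶ (0 : X.Modules)) w).ShortExact :=
      { exact := (ShortComplex.exact_iff_epi _ rfl).2 (inferInstanceAs (Epi (𝟙 E)))
        mono_f := inferInstanceAs (Mono (𝟙 E))
        epi_g := ⟨fun _ _ _ => (isZero_zero X.Modules).eq_of_src _ _⟩ }
    refine ⟨splice _ _ w C e, Iso.refl E, acyclic_splice _ _ w C e hS fun i => ?_, fun i hi => ?_, fun i => ?_,
      fun i hi p hp => ?_⟩
    · exact ShortComplex.exact_of_isZero_X₂ _ (hz i)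
    · match i, hi with
      | j + 2, _ => exact hz _
    · match i with
      | 0 => exact hE
      | 1 => exact hE
      | j + 2 => exact KFlatLib.isFinLocFree_of_isZero (hz _)
    · match i, hi with
      | 1, _ => exact hv p hp
      | j + 2, _ =>
        have h1 : IsZero (CohB1.tensorMod (C.X (j + 1)) F) :=
          ((DCoh.tensorBi (X := X)).flip.obj F).map_isZero (hz _)
        exact (H28.RKoszul.RF π p).map_isZero h1
  | d + 1, E, hE, hv => by
    obtain ⟨W, Q, f, g, w, hS, hW, hQ, hWv⟩ := exists_step π hq hAB hF hE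
    have hQv : ∀ p, d < p → H28.RKoszul.RZ π (CohB1.tensorMod Q F) p := fun p hp => by
      have w' : KoszTw.tensorMap f (𝟙 F) ≫ KoszTw.tensorMap g (𝟙 F) = 0 := by
        rw [← KoszTw.tensorMap_comp, w, Category.id_comp, ← KoszTw.tensorBi_map_app, Functor.map_zero]
        rfl
      exact H28.RKoszul.rz_quot π (DefoSh16.shortExact_tensor f g w hS hQ F w') p (hWv p (by omega))
        (hv (p + 1) (by omega))
    obtain ⟨C, e, hA, hz, hlf, hC⟩ := exists_res hq hAB hF d Q hQ hQv
    refine ⟨splice f g w C e, Iso.refl E, acyclic_splice f g w C e hS hA, fun i hi => ?_, fun i => ?_,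
      fun i hi p hp => ?_⟩
    · match i, hi with
      | j + 2, hi => exact hz (j + 1) (by omega)
    · match i with
      | 0 => exact hE
      | 1 => exact hW
      | j + 2 => exact hlf _
    · match i, hi with
      | 1, _ => exact hWv p hp
      | j + 2, _ => exact hC (j + 1) (by omega) p hp

end Groth.Agent.H23.AcyclicRes
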