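import Groth.Agent.H23.Chern.DualConj
import Groth.Agent.H23.Chern.Formulas
import Groth.Agent.H28.DualFlatPull
import Groth.Agent.H28.PBFil
import Groth.Agent.H28.KvbPull
import Groth.Agent.H28.PBCores
import Groth.Agent.H28.PushLocFree
import Groth.Agent.H28.DualCh

/-!
# The relation of the dual bundle on a projective bundle
-/

set_option autoImplicit false
set_option linter.style.haveILetI false
set_option linter.unusedSectionVars false
set_option backward.isDefEq.respectTransparency false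
set_option backward.isDefEq.respectTransparency.types false

universe v w u

open CategoryTheory CategoryTheory.Limits AlgebraicGeometry LambdaRing Finset

noncomputable section

namespace Groth.Agent.H23.AcyclicRes.PBDual

open Groth.Agent Groth.Agent.H28

section Alg

variable {K : Type v} [CommRing K] [LambdaOps K] {P : PosStructure K}

/-- The expansion of `γ^j (z - (m - 1))` for a line element `m`. -/
theorem gamma_sub_line {m : K} (hm : P.IsLine m) {x z : K} (hxz : z = x + (m - 1)) (j : ℕ) :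
    gamma j x = ∑ i ∈ range (j + 1), (1 - m) ^ (j - i) * gamma i z := by
  have h := Lambda.gammaSeries_sub_one (u := m) (Lambda.lam_one_eq_zero P) (Lambda.lam_line hm)
  have h2 : ∀ n, gamma (n + 2) (m - 1) = 0 := fun n => by
    rw [← Lambda.coeff_gammaSeries, h, map_add, PowerSeries.coeff_one, if_neg (by omega), zero_add,
      PowerSeries.coeff_C_mul, PowerSeries.coeff_X, if_neg (by omega), mul_zero]
  have hs : ∀ n, gamma (n + 1) z = gamma (n + 1) x + gamma n x * (m - 1) := fun n => by
    rw [hxz, Lambda.gamma_add, sum_range_succ, sum_range_succ, Nat.sub_self, Lambda.gamma_zero, mul_one,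
      Nat.add_sub_cancel_left, Lambda.gamma_one, sum_eq_zero, zero_add, add_comm]
    intro i hi
    rw [mem_range] at hi
    rw [show n + 1 - i = (n - i - 1) + 2 by omega, h2, mul_zero]
  induction j with
  | zero => simp [Lambda.gamma_zero]
  | succ j ih =>
    have hs' : gamma (j + 1) x = gamma (j + 1) z + (1 - m) * gamma j x := by rw [hs j]; ring
    rw [hs', ih, sum_range_succ _ (j + 1), Nat.sub_self, pow_zero, one_mul, add_comm, mul_sum]
    refine congrArg (· + _) (sum_congr rfl fun i hi => ?_)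
    rw [mem_range] at hi
    rw [show j + 1 - i = (j - i) + 1 by omega, pow_succ]
    ring

end Alg

variable {X Y : Scheme.{u}} [IsNoetherian X] [IsNoetherian Y] [ConnectedSpace X] [ConnectedSpace Y] {π : X ⟶ Y} [Flat π]
  {r : ℕ} {E : Y.Modules} {O1 Om : X.Modules} {q : (Scheme.Modules.pullback π).obj E ⟶ O1}
  {KX : Type v} [CommRing KX] [LambdaOps KX] {PX : PosStructure KX} {φX : SGA6.Kvb X →+ KX}
  {KY : Type w} [CommRing KY] [LambdaOps KY] {PY : PosStructure KY} {φY : SGA6.Kvb Y →+ KY} {p : KY →+ KX}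

/-- The dual relation. -/
theorem relation (hE : FlatMod.IsFinLocFreeOfRank r E) (hP : KRR.IsProjBundle π E O1 q)
    (hOm : PicF.IsInvertible Om) (hOOm : ClSub.IsInverseOf O1 Om)
    (hKX : KRR.IsModel X KX PX φX) (hKY : KRR.IsModel Y KY PY φY) (hp : KRR.IsPull π φY φX p) :
    1 ≤ r ∧ ∑ i ∈ range (r + 1), (1 - φX (KRR.cl X Om)) ^ (r - i) *
      p (gamma i (φY (KRR.cl Y (RefHull.dual E)) - (r : KY))) = 0 := by
  haveI := hP.epi
  have hEl := KvbModel.lf_of_rank hE
  have hOl := KvbModel.lf_of_rank hP.invertible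
  have hπE := KvbPull.lf_pull π hEl
  have hO1i : PicF.IsInvertible O1 := PBCores.isInvertible_iff_rank.2 hP.invertible
  have hml : FlatMod.IsFinLocFree Om := KvbModel.lf_of_rank (PBCores.isInvertible_iff_rank.1 hOm)
  have hK : FlatMod.IsFinLocFree (kernel q) := KFlatLib.isFinLocFree_kernel q hπE hOl
  obtain ⟨k, hk⟩ := KvbModel.exists_rank hK
  have hkd : FlatMod.IsFinLocFreeOfRank k (Chern.dual (kernel q)) := Chern.rank_dual hk
  have hEd : FlatMod.IsFinLocFreeOfRank r (Chern.dual E) := Chern.rank_dual hE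
  have h1d : FlatMod.IsFinLocFreeOfRank 1 (Chern.dual O1) := Chern.rank_dual hP.invertible
  haveI hiE := DualFlatPull.isIso_toHull (PushLocFree.isCoh_of_isFinLocFree hEl)
  let eE := @asIso _ _ _ _ _ hiE
  have hEr : FlatMod.IsFinLocFreeOfRank r (RefHull.dual E) := Chern.rank_of_iso eE hEd
  have hEdl := KvbModel.lf_of_rank hEr
  -- the class of the dual of the pull-back
  obtain ⟨a, b, w, hs⟩ := Chern.shortExact_dual (KZ.kerSeq_shortExact q) (QCoh.isQCoh_of_isFinLocFree hπE) hOl
  obtain ⟨e₁⟩ := DualFlatPull.nonempty_pullback_dual π (PushLocFree.isCoh_of_isFinLocFree hEl)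
  haveI hi' := DualFlatPull.isIso_toHull (PushLocFree.isCoh_of_isFinLocFree hπE)
  let e₂ := e₁ ≪≫ (@asIso _ _ _ _ _ hi').symm
  have hπd : FlatMod.IsFinLocFree ((Scheme.Modules.pullback π).obj (RefHull.dual E)) := KvbPull.lf_pull π hEdl
  have hd : KRR.cl X (Chern.dual ((Scheme.Modules.pullback π).obj E)) =
      KRR.cl X (Chern.dual O1) + KRR.cl X (Chern.dual (kernel q)) :=
    KZ.clSub_ses (P := fun M : X.Modules => FlatMod.IsFinLocFree M) hs (KvbModel.lf_of_rank h1d)
      (DualCh.lf_dual hπE) (KvbModel.lf_of_rank hkd)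
  set m := φX (KRR.cl X Om) with hm
  set x := φX (KRR.cl X (Chern.dual (kernel q))) with hx
  have hℓ : φX (KRR.cl X O1) * m = 1 := by
    rw [hm, hKX.map_mul _ _ hOl hml, ← hKX.map_one]
    obtain ⟨e⟩ := hOOm
    exact congrArg φX (KvbLam.cl_iso e (KFlatLib.isFinLocFree_tensor hOl hml))
  have hℓ' : φX (KRR.cl X O1) * φX (KRR.cl X (Chern.dual O1)) = 1 := by
    rw [hKX.map_mul _ _ hOl (KvbModel.lf_of_rank h1d), ← hKX.map_one]
    exact congrArg φX (KvbLam.cl_iso (Chern.exists_dual_inverse hO1i).some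
      (KFlatLib.isFinLocFree_tensor hOl (KvbModel.lf_of_rank h1d)))
  have hm' : φX (KRR.cl X (Chern.dual O1)) = m := by
    linear_combination m * hℓ' - φX (KRR.cl X (Chern.dual O1)) * hℓ
  have hsum : p (φY (KRR.cl Y (RefHull.dual E))) = x + m := by
    rw [hp _ hEdl, show KRR.cl X ((Scheme.Modules.pullback π).obj (RefHull.dual E)) =
      KRR.cl X (Chern.dual ((Scheme.Modules.pullback π).obj E)) from KvbLam.cl_iso e₂ hπd,
      hd, map_add, hm', add_comm]
  have haug := congrArg PX.aug hsum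
  rw [LineTwist.aug_pull hKX hKY hp, hKY.aug_cl _ _ hEr, map_add, hx, hKX.aug_cl _ _ hkd, hm,
    hKX.aug_cl 1 Om (PBCores.isInvertible_iff_rank.1 hOm)] at haug
  have hkr : r = k + 1 := by push_cast at haug; omega
  subst hkr
  refine ⟨by omega, ?_⟩
  have h0 : x = 0 ∧ k = 0 ∨ x ∈ PX.pos ∧ PX.aug x = k := by
    rcases Nat.eq_zero_or_pos k with rfl | hk0
    · refine Or.inl ⟨?_, rfl⟩
      rw [hx, show KRR.cl X (Chern.dual (kernel q)) = KRR.cl X (ExtBase.L (Chern.dual (kernel q)) 1) from
          KvbLam.cl_extPow (KvbModel.lf_of_rank hkd) (KvbLam.isExtPow_one _),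
        show KRR.cl X (ExtBase.L (Chern.dual (kernel q)) 1) = 0 from
          KZ.clSub_isZero _ (KvbModel.isZero_L hkd one_pos), map_zero]
    · exact Or.inr ⟨(hKX.mem_pos_iff _).2 ⟨k, _, hk0, hkd, hx.symm⟩, by rw [hx, hKX.aug_cl _ _ hkd]⟩
  let pr := KvbPull.ringHom hKX hKY hp
  have hml' : PX.IsLine m := LineTwist.isLine_cl hKX hOm
  have hz : pr (φY (KRR.cl Y (RefHull.dual E)) - ((k + 1 : ℕ) : KY)) = (x - (k : KX)) + (m - 1) := by
    rw [map_sub, map_natCast]
    show p _ - _ = _
    rw [hsum]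
    push_cast
    ring
  have hexp := gamma_sub_line hml' hz (k + 1)
  rw [PBFil.gamma_sub_eq_zero h0 (by omega)] at hexp
  refine Eq.trans (sum_congr rfl fun i _ => congrArg (_ * ·) ?_) hexp.symm
  exact PBFil.map_gamma (f := pr) (KvbPull.map_lam hKX hKY hp) i _

end Groth.Agent.H23.AcyclicRes.PBDual
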