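import Groth.Agent.H23.AcyclicRes.PushF
import Groth.Agent.H28.PBBasis
import Groth.Agent.H28.PBSplit
import Groth.Agent.H28.PBSpecial
import Groth.Agent.H28.PnBox
import Groth.Agent.H28.RzCover
import Groth.Agent.H28.PnFlat

/-!
# The push-forward on bundle classes of a projective bundle
-/

set_option autoImplicit false
set_option linter.style.haveILetI false
set_option linter.unusedSectionVars false
set_option backward.isDefEq.respectTransparency false
set_option backward.isDefEq.respectTransparency.types false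

universe u

open CategoryTheory CategoryTheory.Limits AlgebraicGeometry TopologicalSpace

noncomputable section

namespace Groth.Agent.H23.AcyclicRes.PBPushF

open Groth.Agent Groth.Agent.H28

variable {X P : Scheme.{u}} {π : P ⟶ X} {n : ℕ} (D : PBPush.Data π n)

/-- Vanishing on the charts gives vanishing. -/
theorem rz_of_charts [IsProper π] {F : P.Modules} (hF : Coh.IsQCoh F)
    (h : ∀ y ∈ D.s, ∀ p, 0 < p →
      RKoszul.RZ (KRR.pr n (D.a y).B) ((Scheme.Modules.pullback (D.a y).j).obj F) p)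
    (p : ℕ) (hp : 0 < p) : RKoszul.RZ π F p := by
  refine RzCover.isZero_RpushAb_of_cover π hF {W | ∃ y ∈ D.s, W = (D.a y).U} (fun x => ?_) ?_ p (by omega)
  · obtain ⟨y, hy, hx⟩ := D.cover x
    exact ⟨_, ⟨y, hy, rfl⟩, hx⟩
  rintro W ⟨y, hy, rfl⟩ q
  let c := D.a y
  haveI : IsAffine c.B := c.U.2
  haveI := PnFlat.isProper_pr n c.B
  have hq : Coh.IsQCoh ((Scheme.Modules.pullback c.j).obj F) := QCoh.isQCoh_pullback _ hF
  obtain ⟨e⟩ := QCoh.nonempty_HH_equiv_sections (KRR.pr n c.B) hq (q + 1)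
  have hs : Subsingleton (Coh.HH (KRR.PY n c.B) ((Scheme.Modules.pullback c.j).obj F) (q + 1)) :=
    @Equiv.subsingleton _ _ e.toEquiv (AddCommGrpCat.subsingleton_of_isZero
      (Functor.map_isZero (sheafToPresheaf _ _ ⋙ (evaluation _ _).obj (Opposite.op ⊤)) (h y hy (q + 1) (by omega))))
  let θ : KRR.PY n c.B ≅ (π ⁻¹ᵁ c.U.1 : P.Opens).toScheme := @asIso _ _ _ _ c.θ c.isIso
  refine QCoh.subsingleton_HH_of_iso ?_ _ (PnFlat.subsingleton_HH_pullback_of_iso θ.symm _ q hs)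
  exact (Scheme.Modules.pullbackComp θ.inv c.j).app F ≪≫
    (Scheme.Modules.pullbackCongr (show θ.inv ≫ c.j = (π ⁻¹ᵁ c.U.1).ι from θ.inv_hom_id_assoc _)).app F ≪≫
    ((Scheme.Modules.restrictFunctorIsoPullback (π ⁻¹ᵁ c.U.1).ι).app F).symm

/-- Acyclicity of deficiency zero. -/
theorem rz_of_def [IsProper π] {F : P.Modules} (h : D.Def 0 F) (p : ℕ) (hp : 0 < p) : RKoszul.RZ π F p :=
  rz_of_charts D (QCoh.isQCoh_of_isFinLocFree h.1) (fun y hy i hi =>
    RKoszul.rz_of_iso _ (KRRReg.twF_zero _).some i (h.2 y hy 0 i hi (by omega))) p hp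

include D in
/-- Higher direct images vanish above the rank. -/
theorem rz_of_lt [IsProper π] {F : P.Modules} (hF : Coh.IsQCoh F) (p : ℕ) (hp : n < p) :
    RKoszul.RZ π F p := by
  refine QCoh.Ab.Rpush_isZero_of_bound π.base
    (fun V => ∃ y ∈ D.s, IsAffineOpen (X := X) V ∧ (V : X.Opens) ≤ (D.a y).U.1) ?_ n (QCoh.abSheaf F) ?_ p hp
  · intro V x hx
    obtain ⟨y, hy, hxy⟩ := D.cover x
    obtain ⟨_, ⟨W, hW, rfl⟩, hxW, hle⟩ := X.isBasis_affineOpens.exists_subset_of_mem_open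
      (show x ∈ (V : X.Opens) ⊓ (D.a y).U.1 from ⟨hx, hxy⟩) ((V : X.Opens) ⊓ (D.a y).U.1).2
    exact ⟨W, fun z hz => (hle hz).1, hxW, y, hy, hW, fun z hz => (hle hz).2⟩
  rintro V ⟨y, hy, hV, hVU⟩ q hq
  obtain ⟨q, rfl⟩ : ∃ r, q = r + 1 := ⟨q - 1, by omega⟩
  let c := D.a y
  refine RzCover.subsingleton_HU_of_HHon F (π ⁻¹ᵁ V) q ?_
  let V' : c.B.Opens := c.U.1.ι ⁻¹ᵁ V
  have hV' : IsAffineOpen V' := hV.preimage_of_isOpenImmersion c.U.1.ι (by rw [Scheme.Opens.opensRange_ι]; exact hVU)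
  have hrange : c.j ''ᵁ (KRR.pr n c.B ⁻¹ᵁ V') = π ⁻¹ᵁ V := by
    refine TopologicalSpace.Opens.ext (Set.ext fun z => ⟨?_, fun hz => ?_⟩)
    · rintro ⟨w, hw, rfl⟩
      show π (c.j w) ∈ V
      rw [show π (c.j w) = c.U.1.ι (KRR.pr n c.B w) from congrArg (fun f => f.base w) c.j_π]
      exact hw
    · obtain ⟨w, rfl⟩ : z ∈ Set.range c.j := by rw [c.range_j]; exact hVU hz
      refine ⟨w, ?_, rfl⟩
      show c.U.1.ι (KRR.pr n c.B w) ∈ V
      rw [← show π (c.j w) = c.U.1.ι (KRR.pr n c.B w) from congrArg (fun f => f.base w) c.j_π]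
      exact hz
  let W₀ := KRR.pr n c.B ⁻¹ᵁ V'
  have h0 := PnBox.subsingleton_HH_of_lt V' hV'
    (QCoh.isQCoh_restrict W₀.ι (QCoh.isQCoh_restrict c.j hF)) (q + 1) (by omega)
  let θ : W₀.toScheme ≅ (π ⁻¹ᵁ V).toScheme :=
    IsOpenImmersion.isoOfRangeEq (W₀.ι ≫ c.j) (π ⁻¹ᵁ V).ι (by
      rw [Scheme.Opens.range_ι, ← hrange]
      exact (Set.range_comp c.j W₀.ι).trans (congrArg (c.j '' ·) (Scheme.Opens.range_ι W₀)))
  refine QCoh.subsingleton_HH_of_iso ?_ _ (PnFlat.subsingleton_HH_pullback_of_iso θ.symm _ q h0)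
  exact (Scheme.Modules.pullback θ.inv).mapIso
      (((Scheme.Modules.restrictFunctorComp W₀.ι c.j).app F).symm ≪≫
        (Scheme.Modules.restrictFunctorIsoPullback (W₀.ι ≫ c.j)).app F) ≪≫
    (Scheme.Modules.pullbackComp θ.inv (W₀.ι ≫ c.j)).app F ≪≫
    (Scheme.Modules.pullbackCongr (show θ.inv ≫ W₀.ι ≫ c.j = (π ⁻¹ᵁ V).ι from
      IsOpenImmersion.isoOfRangeEq_inv_fac _ _ _)).app F ≪≫
    ((Scheme.Modules.restrictFunctorIsoPullback (π ⁻¹ᵁ V).ι).app F).symm

include D in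
/-- The projection formula for a projective bundle. -/
theorem pushF_mul_pull [IsNoetherian X] [IsNoetherian P] [HasInjectiveResolutions P.Modules] [IsProper π] [Flat π]
    (hq : RelProj.IsQuasiProjective π)
    {KP KX : Type u} [CommRing KP] [CommRing KX] [LambdaRing.LambdaOps KP] [LambdaRing.LambdaOps KX]
    {PP : LambdaRing.PosStructure KP} {PX : LambdaRing.PosStructure KX}
    {φP : SGA6.Kvb P →+ KP} {φX : SGA6.Kvb X →+ KX}
    (hKP : KRR.IsModel P KP PP φP) (hKX : KRR.IsModel X KX PX φX)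
    {g : KP →+ KX} (hg : KDet.IsPushF π (Coh.structureModule P) φP φX g) {p : KX →+ KP}
    (hp : KRR.IsPull π φX φP p) (x : KP) (y : KX) : g (x * p y) = g x * y := by
  have hO : Coh.IsCoh (Coh.structureModule P) :=
    CurveDeg.isCoh_of_isInvertible InvX.isInvertible_structureModule
  exact AcyclicRes.pushF_mul_pull' π hq (Or.inl inferInstance) hO (H26.FibModel.isFlatOver_structureModule π) n
    (fun E hE q hq => rz_of_lt D (CurveTensor.isCoh_tensor hE hO).1 q hq) hKP hKX hg hp x y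

/-- The values on the negative twists. -/
theorem pushF_Oinv_pow [IsNoetherian X] [IsNoetherian P] [HasInjectiveResolutions P.Modules] [IsProper π] [Flat π]
    {KP KX : Type u} [CommRing KP] [CommRing KX] [LambdaRing.LambdaOps KP] [LambdaRing.LambdaOps KX]
    {PP : LambdaRing.PosStructure KP} {PX : LambdaRing.PosStructure KX}
    {φP : SGA6.Kvb P →+ KP} {φX : SGA6.Kvb X →+ KX}
    (hKP : KRR.IsModel P KP PP φP) (hKX : KRR.IsModel X KX PX φX)
    {g : KP →+ KX} (hg : KDet.IsPushF π (Coh.structureModule P) φP φX g) (a : ℕ) (ha : a ≤ n) :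
    g (φP (KRR.cl P D.Oinv) ^ a) = if a = 0 then 1 else 0 := by
  have hO : Coh.IsCoh (Coh.structureModule P) :=
    CurveDeg.isCoh_of_isInvertible InvX.isInvertible_structureModule
  let W := CohB1.tensorPow D.Oinv a
  have lW : FlatMod.IsFinLocFree W := PBBasis.lf_pow D a
  have hpow : ∀ b : ℕ, φP (KRR.cl P (CohB1.tensorPow D.Oinv b)) = φP (KRR.cl P D.Oinv) ^ b := fun b => by
    induction b with
    | zero => rw [pow_zero]; exact hKP.map_one
    | succ b ih =>
      rw [pow_succ, ← ih, hKP.map_mul _ _ (PBBasis.lf_pow D b) D.lfi]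
      rfl
  rw [← hpow a]
  obtain ⟨eu⟩ := KvbPull.unitIso π |> fun e => (⟨e⟩ : Nonempty _)
  let e : CohB1.tensorMod W (Coh.structureModule P) ≅ PBBasis.gN D a (Coh.structureModule X) :=
    (DCoh.tensorBi.obj W).mapIso eu.symm
  have hdef := PBBasis.def_gN D ha (N := Coh.structureModule X) KvbLam.lf_O
  obtain ⟨hl, hgv⟩ := AcyclicRes.pushF_cl π hO (H26.FibModel.isFlatOver_structureModule π) hg lW
    fun p hp => RKoszul.rz_of_iso π e.symm p (rz_of_def D hdef p hp)
  rw [hgv]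
  split_ifs with h0
  · subst h0
    obtain ⟨e₀⟩ := PBBasis.gN_zero D (Coh.structureModule X)
    haveI := PBBasis.isIso_unit D (N := Coh.structureModule X) KvbLam.lf_O
    rw [← hKX.map_one]
    refine congrArg φX (KvbLam.cl_iso ?_ hl)
    exact (Coh.push π).mapIso (e ≪≫ e₀) ≪≫
      (asIso ((Scheme.Modules.pullbackPushforwardAdjunction π).unit.app (Coh.structureModule X))).symm
  · have hz := PBBasis.isZero_push_gN D (Nat.one_le_iff_ne_zero.2 h0) ha (N := Coh.structureModule X) KvbLam.lf_O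
    exact (congrArg φX (KZ.clSub_isZero _ (hz.of_iso ((Coh.push π).mapIso e)))).trans (map_zero φX)

end Groth.Agent.H23.AcyclicRes.PBPushF
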