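import Groth.Agent.H28.KvbModel
import Groth.Agent.H28.PBCores
import Groth.Agent.KZ.Localization

/-!
# Padding a bundle to constant rank
-/

set_option autoImplicit false
set_option linter.style.haveILetI false
set_option linter.unusedSectionVars false
set_option backward.isDefEq.respectTransparency false
set_option backward.isDefEq.respectTransparency.types false

universe u

open CategoryTheory CategoryTheory.Limits AlgebraicGeometry TopologicalSpace

noncomputable section

namespace Groth.Agent.H23.AcyclicRes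

open Groth.Agent Groth.Agent.H28.KvbModel

variable {Y : Scheme.{u}}

theorem frameAt_of_iso_free {M : Y.Modules} {U : Y.Opens} {n : ℕ} {y : Y} (hy : y ∈ U)
    (e : M.restrict U.ι ≅ FlatMod.freeMod (U : Scheme.{u}) n) : FrameAt M n y := by
  obtain ⟨s, hs⟩ := H23.Frame.exists_frame e
  exact ⟨U, s, hy, hs⟩

theorem lf_of_frameAt {M : Y.Modules} (h : ∀ y, ∃ r, FrameAt M r y) : FlatMod.IsFinLocFree M := fun y => by
  obtain ⟨r, U, s, hy, hs⟩ := h y
  exact ⟨U, r, hy, H23.Frame.exists_iso_of_frame s hs⟩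

/-- The structure module of a clopen subscheme has rank one on it and rank zero outside. -/
theorem exists_clopen_indicator [AlgebraicGeometry.IsNoetherian Y] {S : Set Y} (hS : IsClopen S) :
    ∃ J : Y.Modules, (∀ y ∈ S, FrameAt J 1 y) ∧ ∀ y ∉ S, FrameAt J 0 y := by
  let U : Y.Opens := ⟨S, hS.2⟩
  let V : Y.Opens := ⟨Sᶜ, hS.1.isOpen_compl⟩
  haveI : IsClosedImmersion U.ι := IsClosedImmersion.of_isPreimmersion U.ι
    (by rw [Scheme.Opens.range_ι]; exact hS.1)
  refine ⟨(Scheme.Modules.pushforward U.ι).obj (Coh.structureModule (U : Scheme.{u})),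
    fun y hy => frameAt_of_iso_free (U := U) hy (asIso ((Scheme.Modules.restrictAdjunction U.ι).counit.app _) ≪≫
      (coproductUniqueIso fun _ : Fin 1 => Coh.structureModule (U : Scheme.{u})).symm),
    fun y hy => frameAt_of_iso_free (U := V) hy ?_⟩
  have hr : Set.range V.ι ⊆ (Set.range U.ι)ᶜ := by
    rw [Scheme.Opens.range_ι, Scheme.Opens.range_ι]
    exact subset_rfl
  refine (KZ.Localization.isZero_restrict_push U.ι V.ι hr _).iso ?_
  rw [IsZero.iff_id_eq_zero]
  exact Sigma.hom_ext _ _ fun j => Fin.elim0 j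

theorem exists_rankFun {G : Y.Modules} (hG : FlatMod.IsFinLocFree G) :
    ∃ r : Y → ℕ, IsLocallyConstant r ∧ ∀ y, FrameAt G (r y) y := by
  refine ⟨fun y => (exists_frameAt hG y).choose, (IsLocallyConstant.iff_exists_open _).2 fun y => ?_,
    fun y => (exists_frameAt hG y).choose_spec⟩
  obtain ⟨U, s, hy, hs⟩ := (exists_frameAt hG y).choose_spec
  exact ⟨U, U.2, hy, fun z hz => frameAt_unique (exists_frameAt hG z).choose_spec ⟨U, s, hz, hs⟩⟩

theorem frameAt_biprod {A B : Y.Modules} {r r' : ℕ} {y : Y} (hA : FrameAt A r y) (hB : FrameAt B r' y) :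
    FrameAt (A ⊞ B) (r + r') y :=
  frameAt_ses (S := ShortComplex.mk (biprod.inl : A ⟶ A ⊞ B) biprod.snd biprod.inl_snd)
    (ShortComplex.Splitting.ofHasBinaryBiproduct A B).shortExact hA hB

theorem exists_pad_aux [AlgebraicGeometry.IsNoetherian Y] (N : ℕ) : ∀ (k : ℕ) (G : Y.Modules) (r : Y → ℕ), IsLocallyConstant r →
    (∀ y, FrameAt G (r y) y) → (∀ y, r y ≤ N) → (∀ y, N ≤ r y + k) →
    ∃ (G' : Y.Modules) (p : G' ⟶ G), FlatMod.IsFinLocFreeOfRank N G' ∧ Nonempty (SplitEpi p)
  | 0, G, r, _, hG, hle, hge =>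
    ⟨G, 𝟙 G, rank_of_frameAt fun y => (show r y = N by have := hle y; have := hge y; omega) ▸ hG y,
      ⟨⟨𝟙 G, Category.id_comp _⟩⟩⟩
  | k + 1, G, r, hr, hG, hle, hge => by
    classical
    let S : Set Y := r ⁻¹' {n | n < N}
    obtain ⟨J, h₁, h₀⟩ := exists_clopen_indicator
      (S := S) ⟨⟨hr {n | n < N}ᶜ⟩, hr {n | n < N}⟩
    obtain ⟨G', p, hG', ⟨se⟩⟩ := exists_pad_aux N k (G ⊞ J) (fun y => if r y < N then r y + 1 else r y)
      (hr.comp fun n => if n < N then n + 1 else n)
      (fun y => by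
        by_cases h : r y < N
        · rw [if_pos h]; exact frameAt_biprod (hG y) (h₁ y h)
        · rw [if_neg h]; exact frameAt_biprod (r' := 0) (hG y) (h₀ y h))
      (fun y => by have := hle y; split <;> omega)
      (fun y => by have := hge y; have := hle y; split <;> omega)
    exact ⟨G', p ≫ biprod.fst, hG', ⟨⟨biprod.inl ≫ se.section_, by simp⟩⟩⟩

/-- Every bundle on a quasi-compact scheme is a split quotient of a bundle of constant positive rank. -/
theorem exists_pad [AlgebraicGeometry.IsNoetherian Y] {G : Y.Modules} (hG : FlatMod.IsFinLocFree G) :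
    ∃ (n : ℕ) (G' : Y.Modules) (p : G' ⟶ G), FlatMod.IsFinLocFreeOfRank (n + 1) G' ∧
      Nonempty (SplitEpi p) := by
  obtain ⟨r, hr, hf⟩ := exists_rankFun hG
  obtain ⟨B, hB⟩ := hr.range_finite.bddAbove
  obtain ⟨G', p, h⟩ := exists_pad_aux (B + 1) (B + 1) G r hr hf
    (fun y => (hB ⟨y, rfl⟩).trans (Nat.le_succ B)) (fun y => Nat.le_add_left _ _)
  exact ⟨B, G', p, h⟩

end Groth.Agent.H23.AcyclicRes
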