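import Groth.Agent.H23.AcyclicRes.Main
import Groth.Agent.H28.KvbModel
import Groth.Agent.QCoh.RpushProper
import Groth.Prelude.Def_KDet
import Mathlib.LinearAlgebra.DirectSum.Finsupp

/-!
# The push-forward on bundle classes twisted by a flat coherent module
-/

set_option autoImplicit false
set_option linter.style.haveILetI false
set_option linter.unusedSectionVars false
set_option backward.isDefEq.respectTransparency false
set_option backward.isDefEq.respectTransparency.types false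

universe u

open CategoryTheory CategoryTheory.Limits AlgebraicGeometry
open scoped TensorProduct

noncomputable section

namespace Groth.Agent.H23.AcyclicRes

open Groth.Agent

variable {X Y : Scheme.{u}} (π : X ⟶ Y)

/-- Tensoring with a bundle preserves flatness over the base. -/
theorem isFlatOver_tensor_lf {S : Scheme.{u}} (f : X ⟶ S) {E F : X.Modules} (hE : FlatMod.IsFinLocFree E)
    (h : FlatMod.IsFlatOver f F) : FlatMod.IsFlatOver f (CohB1.tensorMod E F) := by
  classical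
  intro x
  haveI := QCoh.free_stalk_of_isFinLocFree hE x
  let b := Module.Free.chooseBasis (X.presheaf.stalk x) (E.presheaf.stalk x)
  let l : (CohB1.tensorMod E F).presheaf.stalk x ≃ₗ[X.presheaf.stalk x]
      (Π₀ _i : Module.Free.ChooseBasisIndex (X.presheaf.stalk x) (E.presheaf.stalk x), F.presheaf.stalk x) :=
    (KFlatLib.stalkTensorIso x E F).symm.toLinearEquiv ≪≫ₗ TensorProduct.congr b.repr (LinearEquiv.refl _ _) ≪≫ₗ
      TensorProduct.finsuppScalarLeft _ _ _ ≪≫ₗ finsuppLequivDFinsupp _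
  letI : Algebra (S.presheaf.stalk (f.base x)) (X.presheaf.stalk x) := (f.stalkMap x).hom.toAlgebra
  letI := FlatMod.moduleStalkOver f F x
  letI := FlatMod.moduleStalkOver f (CohB1.tensorMod E F) x
  haveI : Module.Flat (S.presheaf.stalk (f.base x)) (F.presheaf.stalk x) := h x
  haveI : IsScalarTower (S.presheaf.stalk (f.base x)) (X.presheaf.stalk x) (F.presheaf.stalk x) :=
    IsScalarTower.of_algebraMap_smul fun _ _ => rfl
  haveI : IsScalarTower (S.presheaf.stalk (f.base x)) (X.presheaf.stalk x)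
      ((CohB1.tensorMod E F).presheaf.stalk x) := IsScalarTower.of_algebraMap_smul fun _ _ => rfl
  exact Module.Flat.of_linearEquiv (l.restrictScalars (S.presheaf.stalk (f.base x)))

/-- The classes of the acyclic bundles generate when the higher direct images are bounded. -/
theorem generators_induction' [IsNoetherian X] [IsNoetherian Y] [HasInjectiveResolutions X.Modules] [IsProper π]
    (hq : RelProj.IsQuasiProjective π) (hAB : Flat π ∨ ∃ H : Y.Modules, CohB1.IsAmple H)
    {F : X.Modules} (hF : Coh.IsCoh F) (d : ℕ)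
    (hvan : ∀ E : X.Modules, FlatMod.IsFinLocFree E → ∀ p, d < p → H28.RKoszul.RZ π (CohB1.tensorMod E F) p)
    (S : AddSubgroup (SGA6.Kvb X))
    (hS : ∀ E : X.Modules, FlatMod.IsFinLocFree E →
      (∀ p, 0 < p → H28.RKoszul.RZ π (CohB1.tensorMod E F) p) → KRR.cl X E ∈ S)
    (x : SGA6.Kvb X) : x ∈ S := by
  have main : ∀ (k : ℕ) (E : X.Modules), FlatMod.IsFinLocFree E →
      (∀ p, k < p → H28.RKoszul.RZ π (CohB1.tensorMod E F) p) → KRR.cl X E ∈ S := by
    intro k
    induction k with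
    | zero => exact hS
    | succ k ih =>
      intro E hE hv
      obtain ⟨W, Q, f, g, w, hse, hW, hQ, hWv⟩ := exists_step π hq hAB hF hE
      have w' : KoszTw.tensorMap f (𝟙 F) ≫ KoszTw.tensorMap g (𝟙 F) = 0 := by
        rw [← KoszTw.tensorMap_comp, w, Category.id_comp, ← KoszTw.tensorBi_map_app, Functor.map_zero]
        rfl
      have hQm : KRR.cl X Q ∈ S := ih Q hQ fun p hp => H28.RKoszul.rz_quot π
        (DefoSh16.shortExact_tensor f g w hse hQ F w') p (hWv p (by omega)) (hv (p + 1) (by omega))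
      have hsum : KRR.cl X W = KRR.cl X E + KRR.cl X Q :=
        KZ.clSub_ses (P := fun M : X.Modules => FlatMod.IsFinLocFree M) hse hE hW hQ
      rw [show KRR.cl X E = KRR.cl X W - KRR.cl X Q from eq_sub_of_add_eq hsum.symm]
      exact S.sub_mem (hS W hW hWv) hQm
  have hall : ∀ E : X.Modules, FlatMod.IsFinLocFree E → KRR.cl X E ∈ S := fun E hE =>
    main d E hE (hvan E hE)
  obtain ⟨A, B, hA, hB, rfl⟩ := H28.KvbModel.exists_sub x
  exact S.sub_mem (hall A hA) (hall B hB)

/-- The classes of the acyclic bundles generate. -/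
theorem generators_induction [IsNoetherian X] [IsNoetherian Y] [HasInjectiveResolutions X.Modules] [IsProper π]
    (hq : RelProj.IsQuasiProjective π) (hAB : Flat π ∨ ∃ H : Y.Modules, CohB1.IsAmple H)
    {F : X.Modules} (hF : Coh.IsCoh F) (d : ℕ)
    (hd : ∀ y : Y, topologicalKrullDim ↥{x : X | x ∈ CohB1.support F ∧ π.base x = y} ≤ d)
    (S : AddSubgroup (SGA6.Kvb X))
    (hS : ∀ E : X.Modules, FlatMod.IsFinLocFree E →
      (∀ p, 0 < p → H28.RKoszul.RZ π (CohB1.tensorMod E F) p) → KRR.cl X E ∈ S)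
    (x : SGA6.Kvb X) : x ∈ S :=
  generators_induction' π hq hAB hF d (fun _ hE p hp =>
    rz_of_dim π (CurveTensor.isCoh_tensor hE hF) CurveTensor.support_tensor_subset d hd p hp) S hS x

/-- On an acyclic bundle the push-forward is the class of the direct image. -/
theorem pushF_cl [IsNoetherian X] [IsNoetherian Y] [HasInjectiveResolutions X.Modules] [IsProper π]
    {F : X.Modules} (hF : Coh.IsCoh F) (hFf : FlatMod.IsFlatOver π F)
    {KX KY : Type u} [CommRing KX] [CommRing KY] {φX : SGA6.Kvb X →+ KX} {φY : SGA6.Kvb Y →+ KY}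
    {g : KX →+ KY} (hg : KDet.IsPushF π F φX φY g) {E : X.Modules} (hE : FlatMod.IsFinLocFree E)
    (hv : ∀ p, 0 < p → H28.RKoszul.RZ π (CohB1.tensorMod E F) p) :
    FlatMod.IsFinLocFree ((Coh.push π).obj (CohB1.tensorMod E F)) ∧
      g (φX (KRR.cl X E)) = φY (KRR.cl Y ((Coh.push π).obj (CohB1.tensorMod E F))) := by
  have hc : Coh.IsCoh (CohB1.tensorMod E F) := CurveTensor.isCoh_tensor hE hF
  have hR : ∀ p, 0 < p → IsZero ((Coh.Rpush π p).obj (CohB1.tensorMod E F)) := fun p hp => by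
    obtain ⟨p, rfl⟩ : ∃ k, p = k + 1 := ⟨p - 1, by omega⟩
    exact H28.BlowExact.isZero_Rpush_of_rz π p (hv _ hp)
  have hl : FlatMod.IsFinLocFree ((Coh.push π).obj (CohB1.tensorMod E F)) :=
    H9Misc.FlatTwistCrit.isFinLocFree_push π hc (isFlatOver_tensor_lf π hE hFf) hR
  let c : (DCoh.tensorBi.obj F).obj E ≅ CohB1.tensorMod E F := H28.KvbLam.comm F E
  refine ⟨hl, ?_⟩
  rw [hg E hE (fun p hp => (hR p hp).of_iso ((Coh.Rpush π p).mapIso c))
    (H23.PullPush.isFinLocFree_of_iso ((Coh.push π).mapIso c).symm hl)]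
  exact congrArg φY (H28.KvbLam.cl_iso ((Coh.push π).mapIso c).symm hl).symm

/-- The projection formula, when the higher direct images are bounded. -/
theorem pushF_mul_pull' [IsNoetherian X] [IsNoetherian Y] [HasInjectiveResolutions X.Modules] [IsProper π]
    (hq : RelProj.IsQuasiProjective π) (hAB : Flat π ∨ ∃ H : Y.Modules, CohB1.IsAmple H)
    {F : X.Modules} (hF : Coh.IsCoh F) (hFf : FlatMod.IsFlatOver π F) (d : ℕ)
    (hvan : ∀ E : X.Modules, FlatMod.IsFinLocFree E → ∀ p, d < p → H28.RKoszul.RZ π (CohB1.tensorMod E F) p)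
    {KX KY : Type u} [CommRing KX] [CommRing KY] [LambdaRing.LambdaOps KX] [LambdaRing.LambdaOps KY]
    {PX : LambdaRing.PosStructure KX} {PY : LambdaRing.PosStructure KY}
    {φX : SGA6.Kvb X →+ KX} {φY : SGA6.Kvb Y →+ KY}
    (hKX : KRR.IsModel X KX PX φX) (hKY : KRR.IsModel Y KY PY φY)
    {g : KX →+ KY} (hg : KDet.IsPushF π F φX φY g) {pX : KY →+ KX} (hpX : KRR.IsPull π φY φX pX)
    (x : KX) (y : KY) : g (x * pX y) = g x * y := by
  obtain ⟨a, rfl⟩ := hKX.bijective.2 x
  obtain ⟨b, rfl⟩ := hKY.bijective.2 y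
  obtain ⟨A, B, hA, hB, rfl⟩ := H28.KvbModel.exists_sub b
  suffices key : ∀ G : Y.Modules, FlatMod.IsFinLocFree G →
      g (φX a * pX (φY (KRR.cl Y G))) = g (φX a) * φY (KRR.cl Y G) by
    simp only [map_sub, mul_sub, key A hA, key B hB]
  intro G hG
  let h₁ : SGA6.Kvb X →+ KY := g.comp ((AddMonoidHom.mulRight (pX (φY (KRR.cl Y G)))).comp φX)
  let h₂ : SGA6.Kvb X →+ KY := (AddMonoidHom.mulRight (φY (KRR.cl Y G))).comp (g.comp φX)
  suffices hmem : a ∈ (h₁ - h₂).ker from sub_eq_zero.1 hmem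
  refine generators_induction' π hq hAB hF d hvan _ (fun E hE hv => sub_eq_zero.2 ?_) a
  show g (φX (KRR.cl X E) * pX (φY (KRR.cl Y G))) = g (φX (KRR.cl X E)) * φY (KRR.cl Y G)
  let P := (Scheme.Modules.pullback π).obj G
  have lP : FlatMod.IsFinLocFree P := H28.KvbPull.lf_pull π hG
  have lEP : FlatMod.IsFinLocFree (CohB1.tensorMod E P) := KFlatLib.isFinLocFree_tensor hE lP
  obtain ⟨e⟩ : Nonempty (CohB1.tensorMod P (CohB1.tensorMod E F) ≅ CohB1.tensorMod (CohB1.tensorMod E P) F) := by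
    refine H23.PicMul.cl_eq_iff.1 ?_
    letI := H23.PicMul.clMonoid X
    simp only [H23.PicMul.cl_tensor]
    ac_rfl
  have hv' : ∀ p, 0 < p → H28.RKoszul.RZ π (CohB1.tensorMod (CohB1.tensorMod E P) F) p := fun p hp => by
    obtain ⟨p, rfl⟩ : ∃ k, p = k + 1 := ⟨p - 1, by omega⟩
    exact H28.RKoszul.rz_of_iso π e _ (rz_pull_tensor π hG p (hv _ hp))
  obtain ⟨hl, hgE⟩ := pushF_cl π hF hFf hg hE hv
  obtain ⟨hl', hgEP⟩ := pushF_cl π hF hFf hg lEP hv'
  haveI := QCoh.preservesFiniteLimits_push π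
  obtain ⟨ep⟩ := KFlatLib.nonempty_rpush_tensor_finLocFree π (CohB1.tensorMod E F) G hG 0
  let r := (Scheme.Modules.pushforward π).rightDerivedZeroIsoSelf
  let r₁ : (Coh.Rpush π 0).obj (CohB1.tensorMod E F) ≅ (Coh.push π).obj (CohB1.tensorMod E F) := r.app _
  let r₂ : (Coh.Rpush π 0).obj (CohB1.tensorMod P (CohB1.tensorMod E F)) ≅
      (Coh.push π).obj (CohB1.tensorMod P (CohB1.tensorMod E F)) := r.app _
  let c := H28.KvbLam.comm ((Coh.push π).obj (CohB1.tensorMod E F)) G
  let e' : (Coh.push π).obj (CohB1.tensorMod (CohB1.tensorMod E P) F) ≅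
      (DCoh.tensorBi.obj ((Coh.push π).obj (CohB1.tensorMod E F))).obj G :=
    ((Coh.push π).mapIso e).symm ≪≫ r₂.symm ≪≫ ep.symm ≪≫ (DCoh.tensorBi.obj G).mapIso r₁ ≪≫ c.symm
  rw [hpX G hG, hKX.map_mul E _ hE lP]
  refine hgEP.trans ?_
  rw [hgE, hKY.map_mul _ G hl hG]
  exact congrArg φY (H28.KvbLam.cl_iso e' hl')

/-- The projection formula. -/
theorem pushF_mul_pull [IsNoetherian X] [IsNoetherian Y] [HasInjectiveResolutions X.Modules] [IsProper π]
    (hq : RelProj.IsQuasiProjective π) (hAB : Flat π ∨ ∃ H : Y.Modules, CohB1.IsAmple H)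
    {F : X.Modules} (hF : Coh.IsCoh F) (hFf : FlatMod.IsFlatOver π F) (d : ℕ)
    (hd : ∀ y : Y, topologicalKrullDim ↥{x : X | x ∈ CohB1.support F ∧ π.base x = y} ≤ d)
    {KX KY : Type u} [CommRing KX] [CommRing KY] [LambdaRing.LambdaOps KX] [LambdaRing.LambdaOps KY]
    {PX : LambdaRing.PosStructure KX} {PY : LambdaRing.PosStructure KY}
    {φX : SGA6.Kvb X →+ KX} {φY : SGA6.Kvb Y →+ KY}
    (hKX : KRR.IsModel X KX PX φX) (hKY : KRR.IsModel Y KY PY φY)
    {g : KX →+ KY} (hg : KDet.IsPushF π F φX φY g) {pX : KY →+ KX} (hpX : KRR.IsPull π φY φX pX)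
    (x : KX) (y : KY) : g (x * pX y) = g x * y :=
  pushF_mul_pull' π hq hAB hF hFf d (fun _ hE p hp =>
    rz_of_dim π (CurveTensor.isCoh_tensor hE hF) CurveTensor.support_tensor_subset d hd p hp) hKX hKY hg hpX x y

end Groth.Agent.H23.AcyclicRes
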