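import Groth.Agent.H23.AcyclicRes.PushF
import Groth.Agent.QCoh.Support
import Groth.Agent.Lib.CurveSlope
import Groth.Agent.KZ.OpenExt

/-!
# The push-forward of a regular section
-/

set_option autoImplicit false
set_option linter.style.haveILetI false
set_option linter.unusedSectionVars false
set_option backward.isDefEq.respectTransparency false
set_option backward.isDefEq.respectTransparency.types false

universe u

open CategoryTheory CategoryTheory.Limits AlgebraicGeometry

noncomputable section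

namespace Groth.Agent.H23.AcyclicRes.Restrict

open Groth.Agent Groth.Agent.H28 Groth.Agent.H23.PicMul

variable {X Y : Scheme.{u}} [IsNoetherian X] [IsNoetherian Y] [HasInjectiveResolutions X.Modules] (π : X ⟶ Y)
  [IsProper π]

theorem rz_retract {A B : X.Modules} (i : A ⟶ B) (r : B ⟶ A) (h : i ≫ r = 𝟙 A) (p : ℕ)
    (hB : RKoszul.RZ π B p) : RKoszul.RZ π A p := by
  refine (IsZero.iff_id_eq_zero _).2 ?_
  have h1 := congrArg (RKoszul.RF π p).map h
  rw [CategoryTheory.Functor.map_comp, CategoryTheory.Functor.map_id] at h1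
  exact h1.symm.trans (by rw [hB.eq_of_tgt ((RKoszul.RF π p).map i) 0, zero_comp])

/-- Multiplying by `1 - [M]` restricts to the zeroes of a regular section of the inverse of `M`. -/
theorem pushF_one_sub (hq : RelProj.IsQuasiProjective π) (hAB : Flat π ∨ ∃ H : Y.Modules, CohB1.IsAmple H)
    {F : X.Modules} (hF : Coh.IsCoh F) (hFf : FlatMod.IsFlatOver π F) (d : ℕ)
    (hd : ∀ y : Y, topologicalKrullDim ↥{x : X | x ∈ CohB1.support F ∧ π.base x = y} ≤ d)
    {KX KY : Type u} [CommRing KX] [CommRing KY] [LambdaRing.LambdaOps KX]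
    {PX : LambdaRing.PosStructure KX} {φX : SGA6.Kvb X →+ KX} (hKX : KRR.IsModel X KX PX φX)
    {φY : SGA6.Kvb Y →+ KY} {g : KX →+ KY} (hg : KDet.IsPushF π F φX φY g)
    {M : X.Modules} (hM : FlatMod.IsFinLocFree M) (s : M ⟶ Coh.structureModule X)
    (hreg : Mono ((DCoh.tensorBi.obj F).map s))
    (hBf : FlatMod.IsFlatOver π (cokernel ((DCoh.tensorBi.obj F).map s)))
    {g₁ : KX →+ KY} (hg₁ : KDet.IsPushF π (cokernel ((DCoh.tensorBi.obj F).map s)) φX φY g₁) (x : KX) :
    g (x * (1 - φX (KRR.cl X M))) = g₁ x := by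
  let j := (DCoh.tensorBi.obj F).map s
  let A : X.Modules := CohB1.tensorMod F M
  let B : X.Modules := CohB1.tensorMod F (Coh.structureModule X)
  let C : X.Modules := cokernel j
  haveI : Mono j := hreg
  have hA : Coh.IsCoh A := RefX.isCoh_of_iso (KvbLam.comm M F) (CurveTensor.isCoh_tensor hM hF)
  have hB : Coh.IsCoh B := RefX.isCoh_of_iso (unit F).some.symm hF
  have hC : Coh.IsCoh C := QCoh.isCoh_cokernel hA.1 hB j
  have eA : ∀ E : X.Modules, Nonempty (CohB1.tensorMod E A ≅ CohB1.tensorMod (CohB1.tensorMod E M) F) := fun E => by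
    refine cl_eq_iff.1 ?_
    letI := clMonoid X
    simp only [A, cl_tensor]
    ac_rfl
  have eB : ∀ E : X.Modules, Nonempty (CohB1.tensorMod E B ≅ CohB1.tensorMod E F) := fun E => by
    obtain ⟨u⟩ := unit F
    exact ⟨PicGrp.tensorModIso (Iso.refl E) u⟩
  have hsA : ∀ E : X.Modules, FlatMod.IsFinLocFree E → ∀ p, d < p → RKoszul.RZ π (CohB1.tensorMod E A) p :=
    fun E hE p hp => RKoszul.rz_of_iso π (eA E).some.symm p
      (rz_of_dim π (CurveTensor.isCoh_tensor (KFlatLib.isFinLocFree_tensor hE hM) hF)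
        CurveTensor.support_tensor_subset d hd p hp)
  have hsB : ∀ E : X.Modules, FlatMod.IsFinLocFree E → ∀ p, d < p → RKoszul.RZ π (CohB1.tensorMod E B) p :=
    fun E hE p hp => RKoszul.rz_of_iso π (eB E).some.symm p
      (rz_of_dim π (CurveTensor.isCoh_tensor hE hF) CurveTensor.support_tensor_subset d hd p hp)
  let T : ShortComplex X.Modules := ShortComplex.mk (biprod.inl : A ⟶ A ⊞ B) biprod.snd biprod.inl_snd
  have hT : T.ShortExact := (ShortComplex.Splitting.ofHasBinaryBiproduct A B).shortExact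
  obtain ⟨a, rfl⟩ := hKX.bijective.2 x
  let h₁ : SGA6.Kvb X →+ KY := g.comp ((AddMonoidHom.mulRight (1 - φX (KRR.cl X M))).comp φX)
  let h₂ : SGA6.Kvb X →+ KY := g₁.comp φX
  suffices hmem : a ∈ (h₁ - h₂).ker from sub_eq_zero.1 hmem
  refine generators_induction' π hq hAB (F := A ⊞ B) (KZ.isCoh_biprod hA hB) d
    (fun E hE p hp => RKoszul.rz_mid π (CurveTensor.shortExact_tensor hE T.f T.g T.zero hT) p
      (hsA E hE p hp) (hsB E hE p hp)) _ (fun E hE hv => sub_eq_zero.2 ?_) a
  show g (φX (KRR.cl X E) * (1 - φX (KRR.cl X M))) = g₁ (φX (KRR.cl X E))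
  have hvA : ∀ p, 0 < p → RKoszul.RZ π (CohB1.tensorMod E A) p := fun p hp =>
    rz_retract π ((DCoh.tensorBi.obj E).map (biprod.inl : A ⟶ A ⊞ B)) ((DCoh.tensorBi.obj E).map biprod.fst)
      (by rw [← Functor.map_comp, biprod.inl_fst]; exact (DCoh.tensorBi.obj E).map_id A) p (hv p hp)
  have hvB : ∀ p, 0 < p → RKoszul.RZ π (CohB1.tensorMod E B) p := fun p hp =>
    rz_retract π ((DCoh.tensorBi.obj E).map (biprod.inr : B ⟶ A ⊞ B)) ((DCoh.tensorBi.obj E).map biprod.snd)
      (by rw [← Functor.map_comp, biprod.inr_snd]; exact (DCoh.tensorBi.obj E).map_id B) p (hv p hp)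
  let S : ShortComplex X.Modules := ShortComplex.mk ((DCoh.tensorBi.obj E).map j)
    ((DCoh.tensorBi.obj E).map (cokernel.π j))
    (by rw [← Functor.map_comp, cokernel.condition, Functor.map_zero])
  have hS : S.ShortExact := CurveTensor.shortExact_tensor hE j (cokernel.π j) (cokernel.condition j)
    (CurveSlope.shortExact_cokernel_of_mono j)
  have hvC : ∀ p, 0 < p → RKoszul.RZ π (CohB1.tensorMod E C) p := fun p hp =>
    RKoszul.rz_quot π hS p (hvB p hp) (hvA (p + 1) p.succ_pos)
  have hEM : FlatMod.IsFinLocFree (CohB1.tensorMod E M) := KFlatLib.isFinLocFree_tensor hE hM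
  obtain ⟨hlF, hgF⟩ := pushF_cl π hF hFf hg hE
    fun p hp => RKoszul.rz_of_iso π (eB E).some p (hvB p hp)
  obtain ⟨hlM, hgM⟩ := pushF_cl π hF hFf hg hEM
    fun p hp => RKoszul.rz_of_iso π (eA E).some p (hvA p hp)
  obtain ⟨hlC, hgC⟩ := pushF_cl π hC hBf hg₁ hE hvC
  haveI := QCoh.preservesFiniteLimits_push π
  haveI : (Coh.push π).Additive := inferInstance
  let S' := S.map (Coh.push π)
  have hS' : S'.ShortExact :=
    { exact := by
        haveI := hS.mono_f
        exact S'.exact_of_f_is_kernel ((KernelFork.mapIsLimit _ hS.fIsKernel (Coh.push π)))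
      mono_f := by
        haveI := hS.mono_f
        exact inferInstanceAs (Mono ((Coh.push π).map S.f))
      epi_g := RKoszul.epi_push_map π hS (hvA 1 one_pos) }
  have lA : FlatMod.IsFinLocFree S'.X₁ :=
    H23.PullPush.isFinLocFree_of_iso ((Coh.push π).mapIso (eA E).some).symm hlM
  have lB : FlatMod.IsFinLocFree S'.X₂ :=
    H23.PullPush.isFinLocFree_of_iso ((Coh.push π).mapIso (eB E).some).symm hlF
  have hadd : KRR.cl Y S'.X₂ = KRR.cl Y S'.X₁ + KRR.cl Y S'.X₃ :=
    KZ.clSub_ses (P := fun N : Y.Modules => FlatMod.IsFinLocFree N) hS' lA lB hlC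
  rw [mul_sub, mul_one, map_sub, hKX.map_mul E M hE hM]
  refine Eq.trans (congrArg₂ (· - ·) hgF hgM) (Eq.trans ?_ hgC.symm)
  rw [← map_sub]
  refine congrArg φY ?_
  rw [show KRR.cl Y ((Coh.push π).obj (CohB1.tensorMod E F)) = KRR.cl Y S'.X₂ from
      KvbLam.cl_iso ((Coh.push π).mapIso (eB E).some).symm hlF,
    show KRR.cl Y ((Coh.push π).obj (CohB1.tensorMod (CohB1.tensorMod E M) F)) = KRR.cl Y S'.X₁ from
      KvbLam.cl_iso ((Coh.push π).mapIso (eA E).some).symm hlM, hadd, add_sub_cancel_left]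
  rfl

end Groth.Agent.H23.AcyclicRes.Restrict
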