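import Groth.Agent.H23.AcyclicRes.Pad
import Groth.Agent.H23.IntNumCycle
import Groth.Agent.H28.BlowExact
import Groth.Agent.H28.RKoszul
import Groth.Agent.H9Misc.FlatTwistCrit
import Groth.Agent.H26.FibModel
import Groth.Agent.AmpleX.CounitEpi
import Groth.Agent.ExistEasy.PP.HatLemmas
import Groth.Agent.QuotFunLib.ExtFinite
import Groth.Agent.ProjCl17.Basic
import Groth.Agent.QCoh.ProperOver
import Groth.Agent.QCoh.RpushAbGod
import Groth.Agent.RelPC17.HighVanish
import Groth.Agent.KFlatLib.Scheme.ProjLocFree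
import Groth.Agent.DefoSh16.Basic
import Groth.Agent.Lib.CurveTensor

/-!
# One step of an acyclic coresolution by twisted inverse images
-/

set_option autoImplicit false
set_option linter.style.haveILetI false
set_option linter.unusedSectionVars false
set_option backward.isDefEq.respectTransparency false
set_option backward.isDefEq.respectTransparency.types false

universe u

open CategoryTheory CategoryTheory.Limits AlgebraicGeometry TopologicalSpace

noncomputable section

namespace Groth.Agent.H23.AcyclicRes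

open Groth.Agent Groth.Agent.H23.PicMul

variable {X Y : Scheme.{u}} (π : X ⟶ Y)

section Counit

open Groth.Agent.AmpleX MonoidalCategory

variable {L : X.Modules}

/-- For a relatively ample module the counit is eventually epimorphic on twists (no separatedness of the source). -/
theorem eventually_epi_counit_of_isRelAmple [CompactSpace X] (f : X ⟶ Y)
    (hL : RelAmple.IsRelAmple f L) {F : X.Modules} (hq : Coh.IsQCoh F) (hft : CohB1.IsFT F) :
    ∃ n₀ : ℕ, 0 < n₀ ∧ ∀ n, n₀ ≤ n →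
      Epi ((Scheme.Modules.pullbackPushforwardAdjunction f).counit.app
        (CohB1.tensorMod F (CohB1.tensorPow L n))) := by
  classical
  haveI := hL.1
  choose V hV hxV _ using fun x : X => exists_isAffineOpen_mem_and_subset (x := f x) (U := ⊤) trivial
  obtain ⟨S, hS⟩ := isCompact_univ.elim_finite_subcover (fun x => ((f ⁻¹ᵁ V x : X.Opens) : Set X))
    (fun x => (f ⁻¹ᵁ V x).2) (fun x _ => Set.mem_iUnion.2 ⟨x, hxV x⟩)
  have hev : ∀ x : X, ∃ n₀ : ℕ, ∀ n, n₀ ≤ n →
      Curv2.IsGloballyGenerated ((CohB1.tensorMod F (CohB1.tensorPow L n)).restrict (f ⁻¹ᵁ V x).ι) := by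
    intro x
    have ha := hL.2 ⟨V x, hV x⟩
    haveI : CompactSpace (f ⁻¹ᵁ V x : X.Opens).toScheme :=
      isCompact_iff_compactSpace.mp (f.isCompact_preimage (hV x).isCompact)
    haveI : (f ⁻¹ᵁ V x : X.Opens).toScheme.IsSeparated := isSeparated_of_isAmple ha
    obtain ⟨n₀, h⟩ := eventually_isGloballyGenerated ha (F := F.restrict (f ⁻¹ᵁ V x).ι)
      (QCoh.isQCoh_restrict _ hq) (isFT_restrict' _ hq hft)
    refine ⟨n₀, fun n hn => ?_⟩
    obtain ⟨e⟩ := cl_eq_iff.1 (show PicF.cl (CohB1.tensorMod (F.restrict (f ⁻¹ᵁ V x).ι)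
        (CohB1.tensorPow (L.restrict (f ⁻¹ᵁ V x).ι) n)) =
      PicF.cl ((CohB1.tensorMod F (CohB1.tensorPow L n)).restrict (f ⁻¹ᵁ V x).ι) by
        rw [cl_tensor, cl_restrict, cl_tensorPow, cl_restrict, cl_restrict, cl_tensor, cl_tensorPow,
          pullCl_mul, pullCl_pow])
    exact isGloballyGenerated_of_iso e (h n hn)
  choose N hN using hev
  refine ⟨S.sup N + 1, Nat.succ_pos _, fun n hn => epi_counit_of_generated f _ fun x => ?_⟩
  obtain ⟨y, hy, hxy⟩ := Set.mem_iUnion₂.1 (hS (Set.mem_univ x))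
  exact ⟨V y, hxy, hN y n (le_trans ((Finset.le_sup hy).trans (Nat.le_succ _)) hn)⟩

end Counit

/-- A relatively ample line bundle has eventually twists that are quotients of constant rank bundles. -/
theorem exists_twist [IsNoetherian X] [IsNoetherian Y] [HasInjectiveResolutions X.Modules] [IsProper π]
    (hq : RelProj.IsQuasiProjective π) (hAB : Flat π ∨ ∃ H : Y.Modules, CohB1.IsAmple H) :
    ∃ L : X.Modules, RelAmple.IsRelAmple π L ∧ ∃ n₀ : ℕ, ∀ n, n₀ ≤ n →
      ∃ (m : ℕ) (G : Y.Modules) (p : (Scheme.Modules.pullback π).obj G ⟶ CohB1.tensorPow L n),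
        FlatMod.IsFinLocFreeOfRank (m + 1) G ∧ Epi p := by
  obtain ⟨-, -, L, hL⟩ := hq
  have hi := AmpleX.isInvertible_of_isRelAmple hL
  have hO : Coh.IsCoh (Coh.structureModule X) :=
    CurveDeg.isCoh_of_isInvertible InvX.isInvertible_structureModule
  obtain ⟨n₁, -, h₁⟩ := eventually_epi_counit_of_isRelAmple π hL hO.1 hO.2
  have key : ∃ n₀ : ℕ, ∀ n, n₀ ≤ n → ∃ (G : Y.Modules) (q : G ⟶
      (Scheme.Modules.pushforward π).obj (CohB1.tensorMod (Coh.structureModule X) (CohB1.tensorPow L n))),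
      FlatMod.IsFinLocFree G ∧ Epi q := by
    rcases hAB with hf | ⟨H, hH⟩
    · haveI := hf
      obtain ⟨n₂, h₂⟩ := H9Misc.FlatTwistCrit.exists_finLocFree_push π hi (fun W hW => hL.2 ⟨W, hW⟩) hO
        (H26.FibModel.isFlatOver_structureModule π)
      exact ⟨n₂, fun n hn => ⟨_, 𝟙 _, h₂ n hn, inferInstance⟩⟩
    · haveI : Y.IsSeparated := AmpleX.isSeparated_of_isAmple hH
      refine ⟨0, fun n _ => QuotFunLib.ExtFinite.hasEnoughLocFree_of_ample hH _ ?_⟩
      refine ExistEasy.isCoh_pushforward_proper π ?_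
      exact AmpleVan.isCoh_tensor hO (CurveDeg.isCoh_of_isInvertible (InvX.isInvertible_tensorPow hi n))
  obtain ⟨n₂, h₂⟩ := key
  refine ⟨L, hL, max n₁ n₂, fun n hn => ?_⟩
  obtain ⟨G, q, hG, hqe⟩ := h₂ n (le_of_max_le_right hn)
  obtain ⟨m, G', p, hG', ⟨sp⟩⟩ := exists_pad hG
  haveI : Epi p := sp.epi
  haveI := h₁ n (le_of_max_le_left hn)
  obtain ⟨e⟩ := comm (Coh.structureModule X) (CohB1.tensorPow L n)
  obtain ⟨e'⟩ := unit (CohB1.tensorPow L n)
  refine ⟨m, G', (Scheme.Modules.pullback π).map (p ≫ q) ≫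
    (Scheme.Modules.pullbackPushforwardAdjunction π).counit.app _ ≫ (e ≪≫ e').hom, hG', ?_⟩
  haveI : Epi ((Scheme.Modules.pullback π).map (p ≫ q)) := inferInstance
  exact epi_comp _ _

/-- Acyclicity for `π` of the tensor product with a twisted inverse image of a bundle. -/
theorem rz_pull_tensor [HasInjectiveResolutions X.Modules] {G : Y.Modules} (hG : FlatMod.IsFinLocFree G)
    {M : X.Modules} (p : ℕ) (h : H28.RKoszul.RZ π M (p + 1)) :
    H28.RKoszul.RZ π (CohB1.tensorMod ((Scheme.Modules.pullback π).obj G) M) (p + 1) := by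
  obtain ⟨e⟩ := KFlatLib.nonempty_rpush_tensor_finLocFree π M G hG (p + 1)
  exact H28.BlowExact.rz_of_isZero_Rpush π p
    (((DCoh.tensorBi.obj G).map_isZero (H28.BlowExact.isZero_Rpush_of_rz π p h)).of_iso e.symm)

/-- One step: a bundle sits in an exact sequence whose middle term is acyclic after tensoring. -/
theorem exists_step [IsNoetherian X] [IsNoetherian Y] [HasInjectiveResolutions X.Modules] [IsProper π]
    (hq : RelProj.IsQuasiProjective π) (hAB : Flat π ∨ ∃ H : Y.Modules, CohB1.IsAmple H)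
    {F : X.Modules} (hF : Coh.IsCoh F) {E : X.Modules} (hE : FlatMod.IsFinLocFree E) :
    ∃ (W Q : X.Modules) (f : E ⟶ W) (g : W ⟶ Q) (w : f ≫ g = 0),
      (ShortComplex.mk f g w).ShortExact ∧ FlatMod.IsFinLocFree W ∧ FlatMod.IsFinLocFree Q ∧
      ∀ p, 0 < p → H28.RKoszul.RZ π (CohB1.tensorMod W F) p := by
  obtain ⟨L, hL, n₁, h₁⟩ := exists_twist π hq hAB
  have hi := AmpleX.isInvertible_of_isRelAmple hL
  have hEF : Coh.IsCoh (CohB1.tensorMod E F) := CurveTensor.isCoh_tensor hE hF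
  obtain ⟨n₂, h₂⟩ := AmpleVan.RelVanish.exists_vanishing π hi (fun W hW => hL.2 ⟨W, hW⟩) hEF
  let n := max n₁ n₂
  obtain ⟨m, G, q, hG, hqe⟩ := h₁ n (le_max_left _ _)
  let O1 := CohB1.tensorPow L n
  have hO1 : FlatMod.IsFinLocFreeOfRank 1 O1 :=
    H28.PBCores.isInvertible_iff_rank.1 (InvX.isInvertible_tensorPow hi n)
  haveI := hqe
  obtain ⟨G', Q', f', g', w', hG', hQ', hS⟩ := H28.PBCores.exists_cores π hG hO1 q
  obtain ⟨eA⟩ := unit E
  obtain ⟨f, g, w, hS'⟩ := H28.PBCores.exists_tens_ses hS hE (A := E) eA (Iso.refl _) (Iso.refl _)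
  let P := (Scheme.Modules.pullback π).obj G'
  have lO : FlatMod.IsFinLocFree (CohB1.tensorMod O1 P) :=
    KFlatLib.isFinLocFree_tensor (H28.KvbModel.lf_of_rank hO1) (H28.KvbPull.lf_pull π hG')
  refine ⟨_, _, f, g, w, hS', KFlatLib.isFinLocFree_tensor hE lO, KFlatLib.isFinLocFree_tensor hE hQ', ?_⟩
  intro p hp
  obtain ⟨p, rfl⟩ : ∃ k, p = k + 1 := ⟨p - 1, by omega⟩
  obtain ⟨e⟩ : Nonempty (CohB1.tensorMod P (CohB1.tensorMod (CohB1.tensorMod E F) O1) ≅
      CohB1.tensorMod (CohB1.tensorMod E (CohB1.tensorMod O1 P)) F) := cl_eq_iff.1 (by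
    simp only [cl_tensor]
    ac_rfl)
  exact H28.RKoszul.rz_of_iso π e _ (rz_pull_tensor π hG' p (h₂ n (le_max_right _ _) (p + 1) p.succ_pos))

/-- Vanishing above the dimension of the fibres of the support. -/
theorem rz_of_dim [IsNoetherian X] [IsNoetherian Y] [IsProper π] {F M : X.Modules} (hM : Coh.IsCoh M)
    (hs : CohB1.support M ⊆ CohB1.support F) (d : ℕ)
    (hd : ∀ y : Y, topologicalKrullDim ↥{x : X | x ∈ CohB1.support F ∧ π.base x = y} ≤ d)
    (p : ℕ) (hp : d < p) : H28.RKoszul.RZ π M p := by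
  obtain ⟨Z, i, G, hi, hr, hG, -, ⟨e⟩⟩ := QCoh.exists_closed_model hM.1 hM.2
  haveI := hi
  haveI : IsLocallyNoetherian Z := LocallyOfFiniteType.isLocallyNoetherian i
  haveI : CompactSpace Z := QuasiCompact.compactSpace_of_compactSpace i
  haveI : IsNoetherian Z := {}
  have hdim : ∀ y : Y, topologicalKrullDim ↥((i ≫ π).fiber y) ≤ d := fun y => by
    let r : ↥((i ≫ π) ⁻¹' {y}) → ↥{x : X | x ∈ CohB1.support F ∧ π.base x = y} :=
      fun z => ⟨i z.1, hs (hr ▸ Set.mem_range_self z.1), z.2⟩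
    have hr' : Topology.IsEmbedding r :=
      (i.isClosedEmbedding.isEmbedding.comp Topology.IsEmbedding.subtypeVal).codRestrict _ fun z => (r z).2
    exact ((hr'.comp ((i ≫ π).fiberHomeo y).isEmbedding).isInducing.topologicalKrullDim_le).trans (hd y)
  obtain ⟨e'⟩ := QCoh.nonempty_RpushAb_affine_push i π hG p
  exact H28.RKoszul.rz_of_iso π e p
    ((RelPC17.HighVanish.isZero_RpushAb_noetherian (i ≫ π) d hdim hG p hp).of_iso e')

end Groth.Agent.H23.AcyclicRes
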